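import Groth.Agent.LoccohB.GoodSch
import Groth.Agent.PerfA.RoofOpen
import Groth.Agent.PerfB.TildeTorsion
import Groth.Agent.S1014
import Groth.Agent.S1105

/-!
# Lifting perfect complexes from a quasi-compact open of an affine scheme

* `exists_lift`: `K` a complex of `A`-modules with `K ⊗ A_{f_i}` perfect for `i = 1, …, r`: there is a perfect `N` with a
  morphism `N ⟶ K ⊞ K⟦1⟧` in `D(A)` whose cone has `f_i`-power torsion cohomology.
-/

set_option autoImplicit false

universe u

open CategoryTheory Limits Pretriangulated AlgebraicGeometry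

attribute [local instance] HasDerivedCategory.standard

namespace K231.LiftPerf

open Groth.Agent Groth.Agent.PerfA.Restrict Groth.Agent.PerfA.PerfLocal Groth.Agent.PerfA
  Groth.Agent.LoccohB.FlatLBC

variable {A : Type u} [CommRing A]

/-- the open `⋃ D(f_i)` -/
noncomputable def opn {r : ℕ} (f : Fin r → A) : (Spec (CommRingCat.of A)).Opens :=
  ⨆ i, PrimeSpectrum.basicOpen (f i)

lemma isCompact_opn {r : ℕ} (f : Fin r → A) : IsCompact (opn f : Set (Spec (CommRingCat.of A))) := by
  have : (opn f : Set (Spec (CommRingCat.of A))) = ⋃ i, (PrimeSpectrum.basicOpen (f i) : Set (PrimeSpectrum A)) :=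
    TopologicalSpace.Opens.coe_iSup _
  rw [this]
  exact isCompact_iUnion fun i => PrimeSpectrum.isCompact_basicOpen (f i)

/-- the localisation map -/
abbrev lm (a : A) : CommRingCat.of A ⟶ CommRingCat.of (Localization.Away a) :=
  CommRingCat.ofHom (algebraMap A (Localization.Away a))

lemma flat_lm (a : A) : (lm a).hom.Flat := by
  change (algebraMap A (Localization.Away a)).Flat
  rw [RingHom.flat_algebraMap_iff]
  exact IsLocalization.flat _ (Submonoid.powers a)

section

variable [∀ R : CommRingCat.{u}, PreservesFiniteLimits (tilde.functor R)]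

theorem isPerfect_restrictD {r : ℕ} (f : Fin r → A) (K : DRing.Cx A)
    (hK : ∀ i, DRing.IsPerfect (Localization.Away (f i)) (DRing.toD (((ModuleCat.extendScalars.{u, u, u}
      (algebraMap A (Localization.Away (f i)))).mapHomologicalComplex (ComplexShape.up ℤ)).obj K))) :
    DCoh.IsPerfect ((restrictD (opn f).ι).obj ((DCoh.tildeD (CommRingCat.of A)).obj (DRing.toD K))) := by
  refine isPerfect_of_restrictD _ fun y => ?_
  obtain ⟨i, hi⟩ := TopologicalSpace.Opens.mem_iSup.1 y.2
  have hrange : Set.range (Spec.map (lm (f i))) = (PrimeSpectrum.basicOpen (f i) : Set (PrimeSpectrum A)) :=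
    PrimeSpectrum.localization_away_comap_range _ (f i)
  have hle : Set.range (Spec.map (lm (f i))) ⊆ Set.range (opn f).ι := by
    rw [hrange, Scheme.Opens.range_ι]
    exact (le_iSup (fun i => PrimeSpectrum.basicOpen (f i)) i : _)
  have : IsOpenImmersion (Spec.map (lm (f i))) :=
    (inferInstance : IsOpenImmersion (Spec.map (CommRingCat.ofHom (algebraMap A (Localization.Away (f i))))))
  let j : Spec (CommRingCat.of (Localization.Away (f i))) ⟶ (opn f : Scheme.{u}) :=
    IsOpenImmersion.lift (opn f).ι (Spec.map (lm (f i))) hle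
  have hj : j ≫ (opn f).ι = Spec.map (lm (f i)) := IsOpenImmersion.lift_fac _ _ _
  have : IsOpenImmersion (j ≫ (opn f).ι) := by rw [hj]; infer_instance
  have hjo : IsOpenImmersion j := IsOpenImmersion.of_comp j (opn f).ι
  obtain ⟨z, hz⟩ : ∃ z, (Spec.map (lm (f i))) z = y.1 := by
    have : y.1 ∈ Set.range (Spec.map (lm (f i))) := by rw [hrange]; exact hi
    exact this
  refine ⟨_, j, hjo, z, ?_, ?_⟩
  · apply Subtype.ext
    rw [← hz, ← hj]
    rfl
  · let e : (restrictD j).obj ((restrictD (opn f).ι).obj ((DCoh.tildeD (CommRingCat.of A)).obj (DRing.toD K))) ≅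
        (DCoh.tildeD (CommRingCat.of (Localization.Away (f i)))).obj ((flatBC (lm (f i)).hom (flat_lm (f i))).obj
          (DRing.toD K)) :=
      (restrictDComp j (opn f).ι).app _ ≪≫ (restrictDCongr hj).app _ ≪≫
        LoccohB.GoodSch.restrictTilde (lm (f i)) (flat_lm (f i)) (DRing.toD K)
    refine isPerfect_of_iso e.symm ?_
    refine (S1105.result (Localization.Away (f i)) _).2 ?_
    have := ModuleCat.preservesFiniteLimits_extendScalars_of_flat (flat_lm (f i))
    exact PerfC.RingPerf.isPerfect_of_iso ((ModuleCat.extendScalars.{u, u, u}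
        (algebraMap A (Localization.Away (f i)))).mapDerivedCategoryFactors.app K).symm (hK i)

/-- **Lifting of perfect complexes**. -/
theorem exists_lift_aux {r : ℕ} (f : Fin r → A) (K : DRing.Cx A)
    (hK : ∀ i, DRing.IsPerfect (Localization.Away (f i)) (DRing.toD (((ModuleCat.extendScalars.{u, u, u}
      (algebraMap A (Localization.Away (f i)))).mapHomologicalComplex (ComplexShape.up ℤ)).obj K))) :
    ∃ (N C : Dual.D A) (φ : N ⟶ DRing.toD K ⊞ (DRing.toD K)⟦(1 : ℤ)⟧)
      (g : DRing.toD K ⊞ (DRing.toD K)⟦(1 : ℤ)⟧ ⟶ C) (h : C ⟶ N⟦(1 : ℤ)⟧),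
      DRing.IsPerfect A N ∧ Triangle.mk φ g h ∈ distTriang (Dual.D A) ∧
      ∀ (i : Fin r) (n : ℤ) (x : (DerivedCategory.homologyFunctor (ModuleCat.{u} A) n).obj C),
        ∃ m : ℕ, f i ^ m • x = 0 := by
  let R : CommRingCat.{u} := CommRingCat.of A
  let T := DCoh.tildeD R
  let U := opn f
  let L := restrictD U.ι
  obtain ⟨hfull, hfaith, hess⟩ := S0997.result R
  have hF : DCoh.IsPerfect (L.obj (T.obj (DRing.toD K))) := isPerfect_restrictD f K hK
  obtain ⟨G, hG, ⟨eG⟩⟩ := S1014.result (Spec R) U (isCompact_opn f) (L.obj (T.obj (DRing.toD K))) hF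
  let M : Dual.D A := DRing.toD K ⊞ (DRing.toD K)⟦(1 : ℤ)⟧
  -- the isomorphism over `U`
  have hadd : (T ⋙ L).Additive := inferInstance
  have hpb := CategoryTheory.Functor.preservesFiniteBiproductsOfAdditive (F := T ⋙ L)
  have hpb2 : PreservesBinaryBiproduct (DRing.toD K) ((DRing.toD K)⟦(1 : ℤ)⟧) (T ⋙ L) :=
    (preservesBinaryBiproducts_of_preservesBiproducts (T ⋙ L)).preserves
  let e1 : L.obj (T.obj M) ≅ L.obj (T.obj (DRing.toD K)) ⊞ (L.obj (T.obj (DRing.toD K)))⟦(1 : ℤ)⟧ :=
    (T ⋙ L).mapBiprod _ _ ≪≫ biprod.mapIso (Iso.refl _) (((T ⋙ L).commShiftIso (1 : ℤ)).app (DRing.toD K))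
  let α : L.obj (DCoh.toD (Spec R) G) ≅ L.obj (T.obj M) := restrictDQ U.ι G ≪≫ eG ≪≫ e1.symm
  obtain ⟨E₁, β, γ, h1, h2, h3⟩ := RoofOpen.exists_roof_isPerfect (Spec R) U (isCompact_opn f)
    (DCoh.toD (Spec R) G) (T.obj M) hG ((hess _).2 ⟨M, ⟨Iso.refl _⟩⟩) α.hom
  have hγ : IsIso (L.map γ) := by
    rw [← h3]; infer_instance
  obtain ⟨N, ⟨eN⟩⟩ := (hess _).1 (QCohD.isQCohD_of_isPerfect E₁ h1)
  have hN : DRing.IsPerfect A N := (S1105.result A N).1 (isPerfect_of_iso eN.symm h1)
  obtain ⟨φ, hφ⟩ := T.map_surjective (eN.hom ≫ γ)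
  have hφi : IsIso (L.map (T.map φ)) := by
    rw [hφ, Functor.map_comp]; infer_instance
  obtain ⟨C, g, h, hT⟩ := Pretriangulated.distinguished_cocone_triangle φ
  refine ⟨N, C, φ, g, h, hN, hT, fun i n x => ?_⟩
  have hz : IsZero (L.obj (T.obj C)) := by
    have h4 := (T ⋙ L).map_distinguished _ hT
    exact (Triangle.isZero₃_iff_isIso₁ _ h4).2 hφi
  have hz2 : IsZero ((DCoh.HD (T.obj C) n).restrict U.ι) :=
    ((DerivedCategory.homologyFunctor _ n).map_isZero hz).of_iso (HDrestrict U.ι _ n).symm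
  exact PerfB.TildeTorsion.torsD_of_isZero_restrict (A := A) C U n hz2 (f i)
    (le_iSup (fun i => PrimeSpectrum.basicOpen (f i)) i) x

end

/-- **Lifting of perfect complexes**: if `K ⊗ A_{f_i}` is perfect for all `i` then there is a perfect `N` and a morphism
`N ⟶ K ⊞ K⟦1⟧` whose cone has `f_i`-power torsion cohomology for all `i`. -/
theorem exists_lift {r : ℕ} (f : Fin r → A) (K : DRing.Cx A)
    (hK : ∀ i, DRing.IsPerfect (Localization.Away (f i)) (DRing.toD (((ModuleCat.extendScalars.{u, u, u}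
      (algebraMap A (Localization.Away (f i)))).mapHomologicalComplex (ComplexShape.up ℤ)).obj K))) :
    ∃ (N C : Dual.D A) (φ : N ⟶ DRing.toD K ⊞ (DRing.toD K)⟦(1 : ℤ)⟧)
      (g : DRing.toD K ⊞ (DRing.toD K)⟦(1 : ℤ)⟧ ⟶ C) (h : C ⟶ N⟦(1 : ℤ)⟧),
      DRing.IsPerfect A N ∧ Triangle.mk φ g h ∈ distTriang (Dual.D A) ∧
      ∀ (i : Fin r) (n : ℤ) (x : (DerivedCategory.homologyFunctor (ModuleCat.{u} A) n).obj C),
        ∃ m : ℕ, f i ^ m • x = 0 :=
  haveI : ∀ R : CommRingCat.{u}, PreservesFiniteLimits (tilde.functor R) := fun R =>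
    Groth.Agent.PerfB.TildeExact.preservesFiniteLimits_tilde R
  exists_lift_aux f K hK

end K231.LiftPerf
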