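import Groth.Agent.DRing.K231.Kernel

/-!
# Derived completion of triangles and amplitude bounds

* `isRefl_cone`: the cone of `K^ ⟶ L^` is the completion of the cone of `K ⟶ L`.
* `isLE_of_isRefl`: `K ∈ D^{≤ b}` implies `K^ ∈ D^{≤ b}` (`I` finitely generated).
* `isGE_of_isRefl`: `K ∈ D^{≥ a}` implies `K^ ∈ D^{≥ a - r}` (`I` generated by a list of length `r`).
-/

set_option autoImplicit false
set_option backward.isDefEq.respectTransparency false

universe u

open CategoryTheory Limits Pretriangulated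

attribute [local instance] HasDerivedCategory.standard

namespace K231.Amp

open Groth.Agent.LoccohB LocTri FInv DCompCrit TorsSeq HomCx K231.Orth K231.Kernel

variable {A : Type u} [CommRing A]

section Shift

variable {I : Ideal A}

lemma bijective_shift {X Y : Dual.D A} {a : X ⟶ Y}
    (h : ∀ Z, DRing.IsDerivedComplete I Z → Function.Bijective (fun v : Y ⟶ Z => a ≫ v)) (n : ℤ) (Z : Dual.D A)
    (hZ : DRing.IsDerivedComplete I Z) : Function.Bijective (fun v : Y⟦n⟧ ⟶ Z => a⟦n⟧' ≫ v) := by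
  obtain ⟨C, b, c, hT⟩ := distinguished_cocone_triangle a
  have hC : LO I C := lo_of_bijective hT h
  have hT' := Triangle.shift_distinguished _ hT n
  have h1 := bijective_precomp (I := I) (a := n.negOnePow • a⟦n⟧') (b := n.negOnePow • b⟦n⟧') hT' (hC.shift n) Z hZ
  have h2 : (fun v : Y⟦n⟧ ⟶ Z => a⟦n⟧' ≫ v) = (fun v : Y⟦n⟧ ⟶ Z => (n.negOnePow • a⟦n⟧') ≫ v) ∘
      (fun v : Y⟦n⟧ ⟶ Z => n.negOnePow • v) := by
    funext v
    simp only [Function.comp, Linear.units_smul_comp, Linear.comp_units_smul, smul_smul, Int.units_mul_self, one_smul]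
  rw [h2]
  refine h1.comp ⟨fun v w hvw => ?_, fun v => ⟨n.negOnePow • v, ?_⟩⟩
  · have := congrArg (fun t => n.negOnePow • t) hvw
    simpa only [smul_smul, Int.units_mul_self, one_smul] using this
  · simp only [smul_smul, Int.units_mul_self, one_smul]

lemma isRefl_shift {X Y : Dual.D A} {a : X ⟶ Y} (h : GMAbs.IsRefl (DRing.IsDerivedComplete I) a) (n : ℤ) :
    GMAbs.IsRefl (DRing.IsDerivedComplete I) (a⟦n⟧') :=
  Orth.isRefl_of_bijective (complete_shift I _ n h.mem) (bijective_shift (bijective_of_isRefl h) n)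

/-- Completion of triangles. -/
theorem isRefl_cone {K L C K' L' C' : Dual.D A} {φ : K ⟶ L} {g : L ⟶ C} {h : C ⟶ K⟦(1 : ℤ)⟧}
    (hT : Triangle.mk φ g h ∈ distTriang (Dual.D A)) {φ' : K' ⟶ L'} {g' : L' ⟶ C'} {h' : C' ⟶ K'⟦(1 : ℤ)⟧}
    (hT' : Triangle.mk φ' g' h' ∈ distTriang (Dual.D A)) {a : K ⟶ K'} {b : L ⟶ L'}
    (ha : GMAbs.IsRefl (DRing.IsDerivedComplete I) a) (hb : GMAbs.IsRefl (DRing.IsDerivedComplete I) b)
    (hab : φ ≫ b = a ≫ φ') :
    ∃ c : C ⟶ C', g ≫ c = b ≫ g' ∧ h ≫ a⟦(1 : ℤ)⟧' = c ≫ h' ∧ GMAbs.IsRefl (DRing.IsDerivedComplete I) c := by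
  obtain ⟨c, hc₁, hc₂⟩ := complete_distinguished_triangle_morphism _ _ hT hT' a b hab
  change C ⟶ C' at c
  change g ≫ c = b ≫ g' at hc₁
  change h ≫ a⟦(1 : ℤ)⟧' = c ≫ h' at hc₂
  have ha' := isRefl_shift ha 1
  have hb' := isRefl_shift hb 1
  have h12 : φ' ≫ g' = 0 := comp_distTriang_mor_zero₁₂ _ hT'
  have h12' : φ ≫ g = 0 := comp_distTriang_mor_zero₁₂ _ hT
  have h31 : h' ≫ φ'⟦(1 : ℤ)⟧' = 0 := comp_distTriang_mor_zero₃₁ _ hT'
  refine ⟨c, hc₁, hc₂, ⟨complete_obj₃ I hT' ha.mem hb.mem, fun Z hZ u => ?_, fun Z hZ w w' hw => ?_⟩⟩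
  · obtain ⟨v, hv⟩ := hb.exists_desc Z hZ (g ≫ u)
    have h1 : φ' ≫ v = 0 := by
      apply ha.ext Z hZ
      rw [← Category.assoc, ← hab, Category.assoc, hv, ← Category.assoc, h12', zero_comp, comp_zero]
    obtain ⟨w, hw⟩ := Triangle.yoneda_exact₂ _ hT' v h1
    change C' ⟶ Z at w
    change v = g' ≫ w at hw
    have h2 : g ≫ (u - c ≫ w) = 0 := by
      rw [Preadditive.comp_sub, ← Category.assoc, hc₁, Category.assoc, ← hw, hv, sub_self]
    obtain ⟨s, hs⟩ := Triangle.yoneda_exact₃ _ hT (u - c ≫ w) h2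
    change K⟦(1 : ℤ)⟧ ⟶ Z at s
    change u - c ≫ w = h ≫ s at hs
    obtain ⟨s', hs'⟩ := ha'.exists_desc Z hZ s
    refine ⟨w + h' ≫ s', ?_⟩
    rw [Preadditive.comp_add, ← Category.assoc, ← hc₂, Category.assoc, hs', ← hs]
    abel
  · rw [← sub_eq_zero]
    set t := w - w' with ht
    have h0 : c ≫ t = 0 := by rw [ht, Preadditive.comp_sub, hw, sub_self]
    have h1 : g' ≫ t = 0 := by
      apply hb.ext Z hZ
      rw [← Category.assoc, ← hc₁, Category.assoc, h0, comp_zero, comp_zero]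
    obtain ⟨s, hs⟩ := Triangle.yoneda_exact₃ _ hT' t h1
    change K'⟦(1 : ℤ)⟧ ⟶ Z at s
    change t = h' ≫ s at hs
    have h2 : h ≫ (a⟦(1 : ℤ)⟧' ≫ s) = 0 := by
      rw [← Category.assoc, hc₂, Category.assoc, ← hs, h0]
    obtain ⟨r, hr⟩ := Triangle.yoneda_exact₃ _ (rot_of_distTriang _ hT) (a⟦(1 : ℤ)⟧' ≫ s) h2
    change L⟦(1 : ℤ)⟧ ⟶ Z at r
    change a⟦(1 : ℤ)⟧' ≫ s = (-φ⟦(1 : ℤ)⟧') ≫ r at hr
    obtain ⟨r', hr'⟩ := hb'.exists_desc Z hZ r
    have h3 : s = (-φ'⟦(1 : ℤ)⟧') ≫ r' := by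
      apply ha'.ext Z hZ
      rw [hr, ← hr', Preadditive.neg_comp, Preadditive.neg_comp, Preadditive.comp_neg, ← Category.assoc,
        ← Category.assoc, ← Functor.map_comp, ← Functor.map_comp, hab]
    rw [hs, h3, Preadditive.neg_comp, Preadditive.comp_neg, ← Category.assoc, h31, zero_comp, neg_zero]

end Shift

section Bounds

variable {I : Ideal A}

/-- Two reflections of isomorphic objects are isomorphic. -/
lemma isoOfRefl {K K' L L' : Dual.D A} {η : K ⟶ L} {η' : K' ⟶ L'} (h : GMAbs.IsRefl (DRing.IsDerivedComplete I) η)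
    (h' : GMAbs.IsRefl (DRing.IsDerivedComplete I) η') (e : K ≅ K') : ∃ e' : L ≅ L', η ≫ e'.hom = e.hom ≫ η' := by
  obtain ⟨a, ha⟩ := h.exists_desc L' h'.mem (e.hom ≫ η')
  obtain ⟨b, hb⟩ := h'.exists_desc L h.mem (e.inv ≫ η)
  refine ⟨⟨a, b, ?_, ?_⟩, ha⟩
  · apply h.ext _ h.mem
    rw [← Category.assoc, ha, Category.assoc, hb, e.hom_inv_id_assoc, Category.comp_id]
  · apply h'.ext _ h'.mem
    rw [← Category.assoc, hb, Category.assoc, ha, e.inv_hom_id_assoc, Category.comp_id]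

/-- cohomology of `Hom(G₀, J)` -/
noncomputable def hdHom (G J : DRing.Cx A) [J.IsKInjective] (n : ℤ) :
    Dual.HD A (DRing.toD (DRing.homCx G J)) n ≃ₗ[A] (DRing.toD G ⟶ (DRing.toD J)⟦n⟧) :=
  (HomCxHD.hdEquiv (DRing.homCx G J) n) ≪≫ₗ
      (HomCxHD.homologyEquiv G J n (HomCxHD.computes_of_isKInjective G J))

theorem exists_kernel_list (I : Ideal A) (l : List A) (hl : Ideal.span {x | x ∈ l} = I) (K : Dual.D A) :
    ∃ (L : Dual.D A) (η : K ⟶ L), GMAbs.IsRefl (DRing.IsDerivedComplete I) η ∧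
      (∀ b : ℤ, K.IsLE b → L.IsLE b) ∧ (∀ a : ℤ, K.IsGE a → L.IsGE (a - l.length)) := by
  obtain ⟨G, h1, h2, h3, h4, -⟩ := exists_kernel I l hl
  obtain ⟨J, hJ₁, hJ₂, ⟨e⟩⟩ := KInjD.exists_res' A K
  let G₀ := DerivedCategory.Q.objPreimage G
  let eG : DRing.toD G₀ ≅ G := DerivedCategory.Q.objObjPreimageIso G
  obtain ⟨η, hη⟩ := isRefl_homCx h1 h4 J hJ₂ G₀ eG
  refine ⟨_, e.inv ≫ η, ⟨hη.mem, fun Z hZ u => ?_, fun Z hZ v w hvw => ?_⟩, fun b hb => ?_, fun a ha => ?_⟩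
  · obtain ⟨v, hv⟩ := hη.exists_desc Z hZ (e.hom ≫ u)
    exact ⟨v, by rw [Category.assoc, hv, e.inv_hom_id_assoc]⟩
  · apply hη.ext Z hZ
    rw [← cancel_epi e.inv]
    simpa using hvw
  · rw [DerivedCategory.isLE_iff]
    intro n hn
    have h5 : ((DRing.toD J)⟦n⟧).IsLE (-1) := by
      have h6 : (DRing.toD J).IsLE b := DerivedCategory.TStructure.t.isLE_of_iso e.symm b
      have h7 : ((DRing.toD J)⟦n⟧).IsLE (b - n) :=
        DerivedCategory.TStructure.t.isLE_shift _ b n (b - n) (by omega)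
      exact DerivedCategory.TStructure.t.isLE_of_le _ (b - n) (-1) (by omega)
    have h6 : Subsingleton (DRing.toD G₀ ⟶ (DRing.toD J)⟦n⟧) :=
      subsingleton_of_forall_eq 0 fun u => (h3.of_iso eG.symm) _ h5 u
    have h7 : Subsingleton (Dual.HD A (DRing.toD (DRing.homCx G₀ J)) n) :=
      (hdHom G₀ J n).toEquiv.subsingleton
    exact @ModuleCat.isZero_of_subsingleton _ _ _ h7
  · rw [DerivedCategory.isGE_iff]
    intro n hn
    have h5 : ((DRing.toD J)⟦n⟧).IsGE (a - n) := by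
      have h6 : (DRing.toD J).IsGE a := DerivedCategory.TStructure.t.isGE_of_iso e.symm a
      exact DerivedCategory.TStructure.t.isGE_shift _ a n (a - n) (by omega)
    have h8 : (DRing.toD G₀).IsLE l.length := DerivedCategory.TStructure.t.isLE_of_iso eG.symm _
    have h6 : Subsingleton (DRing.toD G₀ ⟶ (DRing.toD J)⟦n⟧) :=
      subsingleton_of_forall_eq 0 fun u =>
        DerivedCategory.TStructure.t.zero_of_isLE_of_isGE u l.length (a - n) (by omega) h8 h5
    have h7 : Subsingleton (Dual.HD A (DRing.toD (DRing.homCx G₀ J)) n) :=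
      (hdHom G₀ J n).toEquiv.subsingleton
    exact @ModuleCat.isZero_of_subsingleton _ _ _ h7

theorem isLE_of_isRefl (hI : I.FG) {K L : Dual.D A} {η : K ⟶ L} (h : GMAbs.IsRefl (DRing.IsDerivedComplete I) η)
    (b : ℤ) (hK : K.IsLE b) : L.IsLE b := by
  obtain ⟨s, hs⟩ := hI
  have hl : Ideal.span {x | x ∈ s.toList} = I := by
    rw [← hs]
    congr 1
    ext x
    simp
  obtain ⟨L', η', h', h1, -⟩ := exists_kernel_list I s.toList hl K
  obtain ⟨e, -⟩ := isoOfRefl h' h (Iso.refl K)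
  have := h1 b hK
  exact DerivedCategory.TStructure.t.isLE_of_iso e b

theorem isGE_of_isRefl (l : List A) (hl : Ideal.span {x | x ∈ l} = I) {K L : Dual.D A} {η : K ⟶ L}
    (h : GMAbs.IsRefl (DRing.IsDerivedComplete I) η)
    (a : ℤ) (hK : K.IsGE a) : L.IsGE (a - l.length) := by
  obtain ⟨L', η', h', -, h1⟩ := exists_kernel_list I l hl K
  obtain ⟨e, -⟩ := isoOfRefl h' h (Iso.refl K)
  have := h1 a hK
  exact DerivedCategory.TStructure.t.isGE_of_iso e _

end Bounds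

section LES

/-- cone bounds from cohomology conditions and conversely -/
lemma isLE_cone {K L C : Dual.D A} {φ : K ⟶ L} {g : L ⟶ C} {h : C ⟶ K⟦(1 : ℤ)⟧}
    (hT : Triangle.mk φ g h ∈ distTriang (Dual.D A)) (n : ℤ)
    (hiso : ∀ i : ℤ, n < i → Mono ((DerivedCategory.homologyFunctor (ModuleCat.{u} A) i).map φ))
    (hepi : ∀ i : ℤ, n ≤ i → Epi ((DerivedCategory.homologyFunctor (ModuleCat.{u} A) i).map φ)) :
    C.IsLE (n - 1) := by
  rw [DerivedCategory.isLE_iff]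
  intro i hi
  have h3 := DerivedCategory.HomologySequence.exact₃ _ hT i (i + 1) rfl
  have h2 := DerivedCategory.HomologySequence.exact₂ _ hT i
  have hz1 : (DerivedCategory.homologyFunctor (ModuleCat.{u} A) i).map g = 0 := by
    have := hepi i (by omega)
    rw [← cancel_epi ((DerivedCategory.homologyFunctor (ModuleCat.{u} A) i).map φ), ← Functor.map_comp]
    have h0 : φ ≫ g = 0 := comp_distTriang_mor_zero₁₂ _ hT
    rw [h0, Functor.map_zero, comp_zero]
  have hz2 : DerivedCategory.HomologySequence.δ (Triangle.mk φ g h) i (i + 1) rfl = 0 := by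
    have := hiso (i + 1) (by omega)
    rw [← cancel_mono ((DerivedCategory.homologyFunctor (ModuleCat.{u} A) (i + 1)).map φ), zero_comp]
    exact DerivedCategory.HomologySequence.δ_comp _ hT i (i + 1) rfl
  exact h3.isZero_of_both_zeros hz1 hz2

lemma isGE_cone {K L C : Dual.D A} {φ : K ⟶ L} {g : L ⟶ C} {h : C ⟶ K⟦(1 : ℤ)⟧}
    (hT : Triangle.mk φ g h ∈ distTriang (Dual.D A)) (n : ℤ)
    (hiso : ∀ i : ℤ, i ≤ n → Mono ((DerivedCategory.homologyFunctor (ModuleCat.{u} A) i).map φ))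
    (hepi : ∀ i : ℤ, i < n → Epi ((DerivedCategory.homologyFunctor (ModuleCat.{u} A) i).map φ)) :
    C.IsGE n := by
  rw [DerivedCategory.isGE_iff]
  intro i hi
  have h3 := DerivedCategory.HomologySequence.exact₃ _ hT i (i + 1) rfl
  have hz1 : (DerivedCategory.homologyFunctor (ModuleCat.{u} A) i).map g = 0 := by
    have := hepi i (by omega)
    rw [← cancel_epi ((DerivedCategory.homologyFunctor (ModuleCat.{u} A) i).map φ), ← Functor.map_comp]
    have h0 : φ ≫ g = 0 := comp_distTriang_mor_zero₁₂ _ hT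
    rw [h0, Functor.map_zero, comp_zero]
  have hz2 : DerivedCategory.HomologySequence.δ (Triangle.mk φ g h) i (i + 1) rfl = 0 := by
    have := hiso (i + 1) (by omega)
    rw [← cancel_mono ((DerivedCategory.homologyFunctor (ModuleCat.{u} A) (i + 1)).map φ), zero_comp]
    exact DerivedCategory.HomologySequence.δ_comp _ hT i (i + 1) rfl
  exact h3.isZero_of_both_zeros hz1 hz2

lemma epi_of_cone {K L C : Dual.D A} {φ : K ⟶ L} {g : L ⟶ C} {h : C ⟶ K⟦(1 : ℤ)⟧}
    (hT : Triangle.mk φ g h ∈ distTriang (Dual.D A)) (i : ℤ)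
    (hC : IsZero ((DerivedCategory.homologyFunctor (ModuleCat.{u} A) i).obj C)) :
    Epi ((DerivedCategory.homologyFunctor (ModuleCat.{u} A) i).map φ) :=
  (DerivedCategory.HomologySequence.exact₂ _ hT i).epi_f (hC.eq_of_tgt _ _)

lemma mono_of_cone {K L C : Dual.D A} {φ : K ⟶ L} {g : L ⟶ C} {h : C ⟶ K⟦(1 : ℤ)⟧}
    (hT : Triangle.mk φ g h ∈ distTriang (Dual.D A)) (i j : ℤ) (hij : i + 1 = j)
    (hC : IsZero ((DerivedCategory.homologyFunctor (ModuleCat.{u} A) i).obj C)) :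
    Mono ((DerivedCategory.homologyFunctor (ModuleCat.{u} A) j).map φ) :=
  (DerivedCategory.HomologySequence.exact₁ _ hT i j hij).mono_g (hC.eq_of_src _ _)

end LES

end K231.Amp
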