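import Groth.Agent.DRing.K231.AdicRefl
import Groth.Agent.DRing.K231.Amp
import Mathlib.RingTheory.AdicCompletion.Functoriality

/-!
# Derived completion of complexes with finite cohomology over a Noetherian ring

`ad_of_finite`: for a reflection `η : K ⟶ L` of `K` with finite cohomology, `H^n(L)` is the adic completion of `H^n(K)`.
-/

set_option autoImplicit false
set_option backward.isDefEq.respectTransparency false

universe u

open CategoryTheory Limits Pretriangulated

attribute [local instance] HasDerivedCategory.standard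

namespace K231.AdicCx

open Groth.Agent.LoccohB K231.Orth K231.Amp

variable {A : Type u} [CommRing A] {I : Ideal A}

section Transport

lemma isRefl_of_iso {X L X' L' : Dual.D A} {η : X ⟶ L} {η' : X' ⟶ L'}
    (h : GMAbs.IsRefl (DRing.IsDerivedComplete I) η) (e : X ≅ X') (e' : L ≅ L') (hc : η ≫ e'.hom = e.hom ≫ η') :
    GMAbs.IsRefl (DRing.IsDerivedComplete I) η' := by
  refine ⟨complete_of_iso I e' h.mem, fun Z hZ u => ?_, fun Z hZ v w hvw => ?_⟩
  · obtain ⟨v, hv⟩ := h.exists_desc Z hZ (e.hom ≫ u)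
    refine ⟨e'.inv ≫ v, ?_⟩
    rw [← cancel_epi e.hom, ← Category.assoc, ← hc, Category.assoc, e'.hom_inv_id_assoc, hv]
  · rw [← cancel_epi e'.hom]
    apply h.ext Z hZ
    rw [← Category.assoc, ← Category.assoc, hc, Category.assoc, Category.assoc, hvw]

/-- `H^n(L)` is the adic completion of `H^n(K)` through `η`. -/
def Ad (I : Ideal A) (n : ℤ) {K L : Dual.D A} (η : K ⟶ L) : Prop :=
  ∃ e : Dual.HD A L n ≃ₗ[A] AdicCompletion I (Dual.HD A K n), ∀ x : Dual.HD A K n,
    e (((DerivedCategory.homologyFunctor (ModuleCat.{u} A) n).map η).hom x) = AdicCompletion.of I (Dual.HD A K n) x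

lemma Ad.transport {n : ℤ} {K L K' L' : Dual.D A} {η : K ⟶ L} {η' : K' ⟶ L'} (h : Ad I n η)
    (φ : K ⟶ K') (φ' : L ⟶ L') (hc : φ ≫ η' = η ≫ φ')
    (h1 : IsIso ((DerivedCategory.homologyFunctor (ModuleCat.{u} A) n).map φ))
    (h2 : IsIso ((DerivedCategory.homologyFunctor (ModuleCat.{u} A) n).map φ')) : Ad I n η' := by
  obtain ⟨e, he⟩ := h
  let a : Dual.HD A K n ≃ₗ[A] Dual.HD A K' n :=
    (asIso ((DerivedCategory.homologyFunctor (ModuleCat.{u} A) n).map φ)).toLinearEquiv
  let b : Dual.HD A L n ≃ₗ[A] Dual.HD A L' n :=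
    (asIso ((DerivedCategory.homologyFunctor (ModuleCat.{u} A) n).map φ')).toLinearEquiv
  refine ⟨b.symm ≪≫ₗ e ≪≫ₗ (AdicCompletion.congr I a).restrictScalars A, fun x => ?_⟩
  obtain ⟨y, rfl⟩ := a.surjective x
  have h3 : ((DerivedCategory.homologyFunctor (ModuleCat.{u} A) n).map η').hom (a y) =
      b (((DerivedCategory.homologyFunctor (ModuleCat.{u} A) n).map η).hom y) := by
    have h4 : (DerivedCategory.homologyFunctor (ModuleCat.{u} A) n).map φ ≫
        (DerivedCategory.homologyFunctor (ModuleCat.{u} A) n).map η' =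
        (DerivedCategory.homologyFunctor (ModuleCat.{u} A) n).map η ≫
          (DerivedCategory.homologyFunctor (ModuleCat.{u} A) n).map φ' := by
      rw [← Functor.map_comp, hc, Functor.map_comp]
    exact LinearMap.congr_fun (congrArg ModuleCat.Hom.hom h4) y
  rw [h3]
  change (AdicCompletion.congr I a) (e (b.symm (b _))) = _
  rw [b.symm_apply_apply, he, AdicCompletion.congr_apply, AdicCompletion.map_of]
  rfl

lemma Ad.transport' {n : ℤ} {K L K' L' : Dual.D A} {η : K ⟶ L} {η' : K' ⟶ L'} (h : Ad I n η')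
    (φ : K ⟶ K') (φ' : L ⟶ L') (hc : φ ≫ η' = η ≫ φ')
    (h1 : IsIso ((DerivedCategory.homologyFunctor (ModuleCat.{u} A) n).map φ))
    (h2 : IsIso ((DerivedCategory.homologyFunctor (ModuleCat.{u} A) n).map φ')) : Ad I n η := by
  obtain ⟨e, he⟩ := h
  let a : Dual.HD A K n ≃ₗ[A] Dual.HD A K' n :=
    (asIso ((DerivedCategory.homologyFunctor (ModuleCat.{u} A) n).map φ)).toLinearEquiv
  let b : Dual.HD A L n ≃ₗ[A] Dual.HD A L' n :=
    (asIso ((DerivedCategory.homologyFunctor (ModuleCat.{u} A) n).map φ')).toLinearEquiv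
  refine ⟨b ≪≫ₗ e ≪≫ₗ (AdicCompletion.congr I a.symm).restrictScalars A, fun x => ?_⟩
  have h3 : ((DerivedCategory.homologyFunctor (ModuleCat.{u} A) n).map η').hom (a x) =
      b (((DerivedCategory.homologyFunctor (ModuleCat.{u} A) n).map η).hom x) := by
    have h4 : (DerivedCategory.homologyFunctor (ModuleCat.{u} A) n).map φ ≫
        (DerivedCategory.homologyFunctor (ModuleCat.{u} A) n).map η' =
        (DerivedCategory.homologyFunctor (ModuleCat.{u} A) n).map η ≫
          (DerivedCategory.homologyFunctor (ModuleCat.{u} A) n).map φ' := by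
      rw [← Functor.map_comp, hc, Functor.map_comp]
    exact LinearMap.congr_fun (congrArg ModuleCat.Hom.hom h4) x
  change (AdicCompletion.congr I a.symm) (e (b _)) = _
  rw [← h3, he, AdicCompletion.congr_apply, AdicCompletion.map_of]
  exact congrArg _ (a.symm_apply_apply x)

/-- independence of the choice of the reflection -/
lemma Ad.of_refl {n : ℤ} {K L K' L' : Dual.D A} {η : K ⟶ L} {η' : K' ⟶ L'} (h : Ad I n η)
    (hη : GMAbs.IsRefl (DRing.IsDerivedComplete I) η) (hη' : GMAbs.IsRefl (DRing.IsDerivedComplete I) η')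
    (e : K ≅ K') : Ad I n η' := by
  obtain ⟨e', he'⟩ := isoOfRefl hη hη' e
  exact h.transport e.hom e'.hom he'.symm inferInstance inferInstance

end Transport

section Single

variable [IsNoetherianRing A] (I) (M : Type u) [AddCommGroup M] [Module A M] [Module.Finite A M]
  [DRing.HasDerivedCompletion I]

theorem isRefl_single (j : ℤ) :
    GMAbs.IsRefl (DRing.IsDerivedComplete I) ((DerivedCategory.singleFunctor (ModuleCat.{u} A) j).map
        (ModuleCat.ofHom (AdicCompletion.of I M))) := by
  have h := isRefl_shift (AdicRefl.isRefl_of_finite I M) (-j)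
  let e := (DerivedCategory.singleFunctors (ModuleCat.{u} A)).shiftIso (-j) j 0 (by omega)
  exact isRefl_of_iso h (e.app (ModuleCat.of A M)) (e.app (ModuleCat.of A (AdicCompletion I M)))
    (e.hom.naturality (ModuleCat.ofHom (AdicCompletion.of I M)))

theorem ad_single (j : ℤ) : Ad I j ((DerivedCategory.singleFunctor (ModuleCat.{u} A) j).map
        (ModuleCat.ofHom (AdicCompletion.of I M))) := by
  let s := DerivedCategory.singleFunctorCompHomologyFunctorIso (ModuleCat.{u} A) j
  let a : Dual.HD A ((DerivedCategory.singleFunctor (ModuleCat.{u} A) j).obj (ModuleCat.of A M)) j ≃ₗ[A] M :=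
    (s.app (ModuleCat.of A M)).toLinearEquiv
  let b : Dual.HD A ((DerivedCategory.singleFunctor (ModuleCat.{u} A) j).obj
      (ModuleCat.of A (AdicCompletion I M))) j ≃ₗ[A] AdicCompletion I M :=
    (s.app (ModuleCat.of A (AdicCompletion I M))).toLinearEquiv
  refine ⟨b ≪≫ₗ (AdicCompletion.congr I a.symm).restrictScalars A, fun x => ?_⟩
  have h := s.hom.naturality (ModuleCat.ofHom (AdicCompletion.of I M))
  have h1 : b (((DerivedCategory.homologyFunctor (ModuleCat.{u} A) j).map
      ((DerivedCategory.singleFunctor (ModuleCat.{u} A) j).map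
        (ModuleCat.ofHom (AdicCompletion.of I M)))).hom x) = AdicCompletion.of I M (a x) :=
    LinearMap.congr_fun (congrArg ModuleCat.Hom.hom h) x
  change (AdicCompletion.congr I a.symm) (b _) = _
  rw [h1, AdicCompletion.congr_apply, AdicCompletion.map_of]
  exact congrArg _ (a.symm_apply_apply x)

end Single

section Trunc

variable [IsNoetherianRing A]

/-- the cohomology modules are finite -/
def Fin (K : Dual.D A) : Prop := ∀ n : ℤ, Module.Finite A (Dual.HD A K n)

lemma finite_of_mono {M N : ModuleCat.{u} A} (f : M ⟶ N) [Mono f] (hN : Module.Finite A N) : Module.Finite A M :=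
  Module.Finite.of_injective f.hom ((ModuleCat.mono_iff_injective f).1 inferInstance)

omit [IsNoetherianRing A] in
lemma finite_of_epi {M N : ModuleCat.{u} A} (f : M ⟶ N) [Epi f] (hM : Module.Finite A M) : Module.Finite A N :=
  Module.Finite.of_surjective f.hom ((ModuleCat.epi_iff_surjective f).1 inferInstance)

lemma Fin.trunc {K : Dual.D A} (hK : Fin K) (n : ℤ) {S T : Dual.D A} {a : S ⟶ K} {b : K ⟶ T} {c : T ⟶ S⟦(1 : ℤ)⟧}
    (hT : Triangle.mk a b c ∈ distTriang (Dual.D A)) (hS : S.IsLE n) (hT' : T.IsGE (n + 1)) : Fin S ∧ Fin T := by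
  constructor
  · intro i
    rcases le_or_gt i n with hi | hi
    · have := mono_of_cone hT (i - 1) i (by omega) (DerivedCategory.isZero_of_isGE T (n + 1) (i - 1) (by omega))
      exact finite_of_mono ((DerivedCategory.homologyFunctor (ModuleCat.{u} A) i).map a) (hK i)
    · have := ModuleCat.subsingleton_of_isZero (DerivedCategory.isZero_of_isLE S n i hi)
      exact Module.Finite.of_finite
  · intro i
    rcases le_or_gt i n with hi | hi
    · have := ModuleCat.subsingleton_of_isZero (DerivedCategory.isZero_of_isGE T (n + 1) i (by omega))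
      exact Module.Finite.of_finite
    · have h1 : IsZero ((DerivedCategory.homologyFunctor (ModuleCat.{u} A) (i + 1)).obj S) :=
        DerivedCategory.isZero_of_isLE S n (i + 1) (by omega)
      have : Epi ((DerivedCategory.homologyFunctor (ModuleCat.{u} A) i).map b) :=
        (DerivedCategory.HomologySequence.exact₃ _ hT i (i + 1) rfl).epi_f (h1.eq_of_tgt _ _)
      exact finite_of_epi ((DerivedCategory.homologyFunctor (ModuleCat.{u} A) i).map b) (hK i)

/-- truncation triangles -/
lemma exists_trunc (K : Dual.D A) (n : ℤ) : ∃ (S T : Dual.D A) (a : S ⟶ K) (b : K ⟶ T) (c : T ⟶ S⟦(1 : ℤ)⟧),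
    Triangle.mk a b c ∈ distTriang (Dual.D A) ∧ S.IsLE n ∧ T.IsGE (n + 1) := by
  have h := DerivedCategory.TStructure.t.triangleLTGE_distinguished (n + 1) K
  have h1 : DerivedCategory.TStructure.t.IsLE
      ((DerivedCategory.TStructure.t.triangleLTGE (n + 1)).obj K).obj₁ (n + 1 - 1) := inferInstance
  rw [add_sub_cancel_right] at h1
  have h2 : DerivedCategory.TStructure.t.IsGE
      ((DerivedCategory.TStructure.t.triangleLTGE (n + 1)).obj K).obj₃ (n + 1) := inferInstance
  exact ⟨_, _, _, _, _, h, h1, h2⟩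

variable [DRing.HasDerivedCompletion I]

/-- objects concentrated in one degree -/
lemma conc {K L : Dual.D A} (hK : Fin K) (n : ℤ) (h1 : K.IsLE n) (h2 : K.IsGE n) {η : K ⟶ L}
    (hη : GMAbs.IsRefl (DRing.IsDerivedComplete I) η) : Ad I n η ∧ L.IsLE n ∧ L.IsGE n := by
  obtain ⟨M, ⟨e⟩⟩ := DerivedCategory.exists_iso_singleFunctor_obj_of_isGE_of_isLE K n
  have hM : Module.Finite A M := by
    have h3 : M ≅ (DerivedCategory.homologyFunctor (ModuleCat.{u} A) n).obj K :=
      ((DerivedCategory.singleFunctorCompHomologyFunctorIso (ModuleCat.{u} A) n).app M).symm ≪≫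
        (DerivedCategory.homologyFunctor (ModuleCat.{u} A) n).mapIso e.symm
    have := hK n
    exact Module.Finite.equiv h3.toLinearEquiv.symm
  have h4 := isRefl_single I M n
  refine ⟨(ad_single I M n).of_refl h4 hη e.symm, ?_⟩
  obtain ⟨e', -⟩ := isoOfRefl h4 hη e.symm
  exact ⟨DerivedCategory.TStructure.t.isLE_of_iso e' n, DerivedCategory.TStructure.t.isGE_of_iso e' n⟩

lemma isGE_aux (l : List A) (hl : Ideal.span {x | x ∈ l} = I) (k : ℕ) :
    k ≤ l.length → ∀ (a : ℤ) (K L : Dual.D A) (_ : Fin K) (_ : K.IsGE a) (η : K ⟶ L)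
      (_ : GMAbs.IsRefl (DRing.IsDerivedComplete I) η), L.IsGE (a - l.length + k) := by
  induction k with
  | zero =>
    intro _ a K L _ hK η hη
    rw [Nat.cast_zero, add_zero]
    exact isGE_of_isRefl l hl hη a hK
  | succ k ih =>
    intro hk a K L hf hK η hη
    obtain ⟨S, T, s, t, c, hT, hS, hT'⟩ := exists_trunc K a
    obtain ⟨hfS, hfT⟩ := hf.trunc a hT hS hT'
    have hηS := isRefl_toDerivedCompletion (I := I) S
    obtain ⟨ι, hι⟩ := hηS.exists_desc L hη.mem (s ≫ η)
    obtain ⟨C, g', h', hC⟩ := distinguished_cocone_triangle ι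
    obtain ⟨d, -, -, hd⟩ := isRefl_cone hT hC hηS hη hι.symm
    have hSa : S.IsGE a := by
      rw [DerivedCategory.isGE_iff]
      intro i hi
      have h1 : IsZero ((DerivedCategory.homologyFunctor (ModuleCat.{u} A) i).obj K) :=
        DerivedCategory.isZero_of_isGE K a i hi
      have := mono_of_cone hT (i - 1) i (by omega) (DerivedCategory.isZero_of_isGE T (a + 1) (i - 1) (by omega))
      exact h1.of_mono ((DerivedCategory.homologyFunctor (ModuleCat.{u} A) i).map s)
    obtain ⟨-, -, h2⟩ := conc hfS a hS hSa hηS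
    have h3 := ih (by omega) (a + 1) T C hfT hT' d hd
    have h4 : DerivedCategory.TStructure.t.IsGE ((DRing.derivedCompletion I).obj S).obj
        (a - l.length + (k + 1 : ℕ)) := DerivedCategory.TStructure.t.isGE_of_ge _ _ a (by push_cast; omega)
    have h5 : DerivedCategory.TStructure.t.IsGE C (a - l.length + (k + 1 : ℕ)) :=
      DerivedCategory.TStructure.t.isGE_of_ge _ _ (a + 1 - l.length + k) (by push_cast; omega)
    exact DerivedCategory.TStructure.t.isGE₂ _ hC _ h4 h5

/-- Completion preserves `D^{≥ a}` for objects with finite cohomology. -/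
theorem isGE_refl {a : ℤ} {K L : Dual.D A} (hf : Fin K) (hK : K.IsGE a) {η : K ⟶ L}
    (hη : GMAbs.IsRefl (DRing.IsDerivedComplete I) η) : L.IsGE a := by
  obtain ⟨l, hl, -⟩ := AdicRefl.exists_list I
  have := isGE_aux l hl l.length le_rfl a K L hf hK η hη
  rwa [sub_add_cancel] at this

theorem ad_of_finite (n : ℤ) {K L : Dual.D A} (hf : Fin K) {η : K ⟶ L}
    (hη : GMAbs.IsRefl (DRing.IsDerivedComplete I) η) : Ad I n η := by
  obtain ⟨S, T, s, t, c, hT, hS, hT'⟩ := exists_trunc K n
  obtain ⟨hfS, hfT⟩ := hf.trunc n hT hS hT'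
  have hηS := isRefl_toDerivedCompletion (I := I) S
  obtain ⟨ι, hι⟩ := hηS.exists_desc L hη.mem (s ≫ η)
  -- first reduction: `K` to `S`
  suffices h : Ad I n (DRing.toDerivedCompletion I S) by
    obtain ⟨C, g', h', hC⟩ := distinguished_cocone_triangle ι
    obtain ⟨d, -, -, hd⟩ := isRefl_cone hT hC hηS hη hι.symm
    have hC' : C.IsGE (n + 1) := isGE_refl hfT hT' hd
    refine h.transport s ι hι.symm ?_ ?_
    · have := mono_of_cone hT (n - 1) n (by omega) (DerivedCategory.isZero_of_isGE T (n + 1) (n - 1) (by omega))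
      have := epi_of_cone hT n (DerivedCategory.isZero_of_isGE T (n + 1) n (by omega))
      exact isIso_of_mono_of_epi _
    · have := mono_of_cone hC (n - 1) n (by omega) (DerivedCategory.isZero_of_isGE C (n + 1) (n - 1) (by omega))
      have := epi_of_cone hC n (DerivedCategory.isZero_of_isGE C (n + 1) n (by omega))
      exact isIso_of_mono_of_epi _
  -- second reduction: `S` to `H^n(S)[-n]`
  obtain ⟨F, R, f, r, c', hR, hF, hR'⟩ := exists_trunc S (n - 1)
  obtain ⟨hfF, hfR⟩ := hfS.trunc (n - 1) hR hF hR'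
  rw [sub_add_cancel] at hR'
  have hRn : R.IsLE n := by
    rw [DerivedCategory.isLE_iff]
    intro i hi
    have h1 : IsZero ((DerivedCategory.homologyFunctor (ModuleCat.{u} A) (i + 1)).obj F) :=
      DerivedCategory.isZero_of_isLE F (n - 1) (i + 1) (by omega)
    have : Epi ((DerivedCategory.homologyFunctor (ModuleCat.{u} A) i).map r) :=
        (DerivedCategory.HomologySequence.exact₃ _ hR i (i + 1) rfl).epi_f (h1.eq_of_tgt _ _)
    have h2 : IsZero ((DerivedCategory.homologyFunctor (ModuleCat.{u} A) i).obj S) :=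
      DerivedCategory.isZero_of_isLE S n i hi
    exact h2.of_epi ((DerivedCategory.homologyFunctor (ModuleCat.{u} A) i).map r)
  have hηF := isRefl_toDerivedCompletion (I := I) F
  obtain ⟨ι', hι'⟩ := hηF.exists_desc _ hηS.mem (f ≫ DRing.toDerivedCompletion I S)
  obtain ⟨C, g', h', hC⟩ := distinguished_cocone_triangle ι'
  obtain ⟨d, hd1, -, hd⟩ := isRefl_cone hR hC hηF hηS hι'.symm
  obtain ⟨hAd, -, -⟩ := conc hfR n hRn hR' hd
  have hF' : (((DRing.derivedCompletion I).obj F).obj).IsLE (n - 1) :=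
    isLE_of_isRefl (IsNoetherian.noetherian I) hηF (n - 1) hF
  have key : ∀ {X Y Z : Dual.D A} {a : X ⟶ Y} {b : Y ⟶ Z} {c : Z ⟶ X⟦(1 : ℤ)⟧}
      (_ : Triangle.mk a b c ∈ distTriang (Dual.D A)) (_ : X.IsLE (n - 1)),
      IsIso ((DerivedCategory.homologyFunctor (ModuleCat.{u} A) n).map b) := by
    intro X Y Z a b c hT hX
    have h1 : IsZero ((DerivedCategory.homologyFunctor (ModuleCat.{u} A) (n + 1)).obj X) :=
      DerivedCategory.isZero_of_isLE X (n - 1) (n + 1) (by omega)
    have h2 : IsZero ((DerivedCategory.homologyFunctor (ModuleCat.{u} A) n).obj X) :=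
      DerivedCategory.isZero_of_isLE X (n - 1) n (by omega)
    have : Epi ((DerivedCategory.homologyFunctor (ModuleCat.{u} A) n).map b) :=
      (DerivedCategory.HomologySequence.exact₃ _ hT n (n + 1) rfl).epi_f (h1.eq_of_tgt _ _)
    have : Mono ((DerivedCategory.homologyFunctor (ModuleCat.{u} A) n).map b) :=
      (DerivedCategory.HomologySequence.exact₂ _ hT n).mono_g (h2.eq_of_src _ _)
    exact isIso_of_mono_of_epi _
  exact hAd.transport' r g' hd1 (key hR hF) (key hC hF')

end Trunc

end K231.AdicCx
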