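import Groth.Agent.DRing.K231.Orth
import Groth.Agent.LoccohB.RHomApprox
import Groth.Agent.LoccohB.HomCxBase

/-!
# The torsion kernel `G ⟶ A` and `K^ = RHom(G, K)`

For a list `l` of elements generating `I`: an object `G` with `I`-power torsion cohomology, obtained from `A[0]` by
`l.length` localization triangles. It satisfies `G ∈ D^{≤ r}`, `Hom(G, X) = 0` for `X ∈ D^{≤ -1}`, and
`J ⟶ Hom(G, J)` is a reflection into the complete objects.
-/

set_option autoImplicit false
set_option backward.isDefEq.respectTransparency false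

universe u

open CategoryTheory Limits Pretriangulated

attribute [local instance] HasDerivedCategory.standard

namespace K231.Kernel

open Groth.Agent.LoccohB LocTri FInv DCompCrit TorsSeq HomCx K231.Orth

variable {A : Type u} [CommRing A]

section Amplitude

/-- no maps from a projective module to an object of `D^{≤ -1}` -/
lemma hom_projective_eq_zero (P : ModuleCat.{u} A) [Projective P] (n : ℤ) (X : Dual.D A)
    (hX : IsZero ((DerivedCategory.homologyFunctor (ModuleCat.{u} A) n).obj X))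
    (u : (DerivedCategory.singleFunctor (ModuleCat.{u} A) n).obj P ⟶ X) : u = 0 := by
  apply (DBase.homToH_bijective n P X).1
  exact hX.eq_of_tgt _ _

/-- no maps from `A_f` to an object of `D^{≤ -2}` -/
lemma hom_away_eq_zero (f : A) (X : Dual.D A) (hX : X.IsLE (-2)) (u : Dual.inD A (Localization.Away f) ⟶ X) :
    u = 0 := by
  have hT := (telSES_shortExact f).singleTriangle_distinguished
  have h0 : IsZero ((DerivedCategory.homologyFunctor (ModuleCat.{u} A) 0).obj X) :=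
    DerivedCategory.isZero_of_isLE X (-2) 0 (by omega)
  have h1 : (DerivedCategory.singleFunctor (ModuleCat.{u} A) 0).map (telSES f).g ≫ u = 0 :=
    hom_projective_eq_zero (ModuleCat.of A (ℕ →₀ A)) 0 X h0 _
  obtain ⟨w, hw⟩ := Triangle.yoneda_exact₃ _ hT u h1
  have h2 : w = 0 := by
    have h3 : IsZero ((DerivedCategory.homologyFunctor (ModuleCat.{u} A) (-1)).obj X) :=
      DerivedCategory.isZero_of_isLE X (-2) (-1) (by omega)
    let e := ((DerivedCategory.singleFunctors (ModuleCat.{u} A)).shiftIso 1 (-1) 0 (by simp)).app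
      (ModuleCat.of A (ℕ →₀ A))
    have h4 : e.inv ≫ w = 0 := hom_projective_eq_zero (ModuleCat.of A (ℕ →₀ A)) (-1) X h3 _
    rw [← cancel_epi e.inv, h4, comp_zero]
  rw [hw, h2, comp_zero]

variable (f : A)

local notation "φf" => algebraMap A (Localization.Away f)

/-- `T(X, f) = RHom(A_f, X)` -/
noncomputable abbrev TT (X : Dual.D A) : Dual.D A := (DRing.restrictD φf).obj ((RAdj.RCoext φf).obj X)

/-- `A_f[-i]` in `D(A_f)` restricted to `D(A)` -/
noncomputable def resSelf (i : ℤ) : (DRing.restrictD φf).obj (DBase.sg (Localization.Away f) i (Localization.Away f)) ≅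
    (DerivedCategory.singleFunctor (ModuleCat.{u} A) i).obj (ModuleCat.of A (Localization.Away f)) :=
  ((ModuleCat.restrictScalars.{u} φf).mapDerivedCategorySingleFunctor i).app _ ≪≫
          (DerivedCategory.singleFunctor (ModuleCat.{u} A) i).mapIso (restrictSelf f)

lemma isZero_HD_RCoext (X : Dual.D A) (i : ℤ)
    (h : ∀ u : (DerivedCategory.singleFunctor (ModuleCat.{u} A) i).obj (ModuleCat.of A (Localization.Away f)) ⟶ X, u = 0) :
    IsZero ((DerivedCategory.homologyFunctor (ModuleCat.{u} (Localization.Away f)) i).obj ((RAdj.RCoext φf).obj X)) := by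
  have h1 : Subsingleton (DBase.sg (Localization.Away f) i (Localization.Away f) ⟶ (RAdj.RCoext φf).obj X) := by
    refine ⟨fun a b => ?_⟩
    apply ((RAdj.coextAdj φf).homEquiv _ _).symm.injective
    rw [← cancel_epi (resSelf f i).inv]
    exact (h _).trans (h _).symm
  have h3 : Subsingleton (Dual.HD (Localization.Away f) ((RAdj.RCoext φf).obj X) i) :=
    (DBase.homEquivHD i ((RAdj.RCoext φf).obj X)).symm.toEquiv.subsingleton
  exact @ModuleCat.isZero_of_subsingleton _ _ _ h3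

lemma isZero_HD_restrictD {B : Type u} [CommRing B] (φ : A →+* B) (Y : Dual.D B) (i : ℤ)
    (h : IsZero ((DerivedCategory.homologyFunctor (ModuleCat.{u} B) i).obj Y)) :
    IsZero ((DerivedCategory.homologyFunctor (ModuleCat.{u} A) i).obj ((DRing.restrictD φ).obj Y)) :=
  ((ModuleCat.restrictScalars.{u} φ).map_isZero h).of_iso
    ((DBase.mapDerivedCategoryHomologyIso (ModuleCat.restrictScalars.{u} φ) i).app Y)

/-- `T(-, f)` raises upper bounds by at most one. -/
lemma isLE_TT (X : Dual.D A) (hX : X.IsLE (-1)) : (TT f X).IsLE 0 := by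
  rw [DerivedCategory.isLE_iff]
  intro i hi
  apply isZero_HD_restrictD
  apply isZero_HD_RCoext
  intro u
  let e := ((DerivedCategory.singleFunctors (ModuleCat.{u} A)).shiftIso i 0 i (by simp)).app
      (ModuleCat.of A (Localization.Away f))
  have h1 : (X⟦i⟧).IsLE (-1 - i) := DerivedCategory.TStructure.t.isLE_shift X (-1) i (-1 - i) (by omega)
  have h2 : (X⟦i⟧).IsLE (-2) := DerivedCategory.TStructure.t.isLE_of_le _ (-1 - i) (-2) (by omega)
  have h3 := hom_away_eq_zero f (X⟦i⟧) h2 (e.inv ≫ u⟦i⟧')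
  apply (shiftFunctor (Dual.D A) i).map_injective
  rw [Functor.map_zero, ← cancel_epi e.inv, h3, comp_zero]

/-- `f` acts invertibly on `restrictD Y`, `Y` in `D(A_f)`. -/
lemma isIso_smul_restrictD (Y : Dual.D (Localization.Away f)) : IsIso (f • 𝟙 ((DRing.restrictD φf).obj Y)) := by
  apply isIso_smul_of_homology
  intro i
  let e := (DBase.mapDerivedCategoryHomologyIso (ModuleCat.restrictScalars.{u} φf) i).app Y
  have h1 : IsIso (f • 𝟙 ((ModuleCat.restrictScalars.{u} φf).obj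
      ((DerivedCategory.homologyFunctor (ModuleCat.{u} (Localization.Away f)) i).obj Y))) := by
    rw [ConcreteCategory.isIso_iff_bijective]
    obtain ⟨b, hb⟩ := (IsLocalization.Away.algebraMap_isUnit f (S := Localization.Away f)).exists_left_inv
    let M := (DerivedCategory.homologyFunctor (ModuleCat.{u} (Localization.Away f)) i).obj Y
    have hb' : ∀ x : M, b • (φf f • x) = x := fun x => by rw [smul_smul, hb, one_smul]
    have hb'' : ∀ x : M, φf f • (b • x) = x := fun x => by rw [smul_smul, mul_comm, hb, one_smul]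
    constructor
    · intro x y hxy
      have h2 : φf f • (show M from x) = φf f • (show M from y) := hxy
      have h3 := congrArg (fun t => b • t) h2
      dsimp only at h3
      rwa [hb', hb'] at h3
    · intro y
      exact ⟨(show M from b • (show M from y)), hb'' y⟩
  have h2 : f • 𝟙 ((DerivedCategory.homologyFunctor (ModuleCat.{u} A) i).obj ((DRing.restrictD φf).obj Y)) =
      e.hom ≫ (f • 𝟙 ((ModuleCat.restrictScalars.{u} φf).obj
      ((DerivedCategory.homologyFunctor (ModuleCat.{u} (Localization.Away f)) i).obj Y))) ≫ e.inv := by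
    simp
  rw [h2]
  infer_instance

/-- Triangle `G ⟶ K ⟶ C`, `G` `f`-power torsion, `f` invertible on `C`: `Hom(C, X) = 0` if `Hom(K, T(X, f)) = 0`. -/
lemma hom_eq_zero_of_TT {G K C : Dual.D A} {α : G ⟶ K} {β : K ⟶ C} {γ : C ⟶ G⟦(1 : ℤ)⟧}
    (hT : Triangle.mk α β γ ∈ distTriang (Dual.D A)) (hC : IsIso (f • 𝟙 C))
    (hG : ∀ i, ElTor f (Dual.HD A G i)) (X : Dual.D A) (h : ∀ u : K ⟶ TT f X, u = 0) (u : C ⟶ X) : u = 0 := by
  obtain ⟨C', ⟨e⟩⟩ := exists_restrictD f C hC
  -- `u` factors through `T(X, f)`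
  let w : C' ⟶ (RAdj.RCoext φf).obj X := (RAdj.coextAdj φf).homEquiv _ _ (e.inv ≫ u)
  have hw : (DRing.restrictD φf).map w ≫ (RAdj.coextAdj φf).counit.app X = e.inv ≫ u := by
    have := ((RAdj.coextAdj φf).homEquiv C' X).symm_apply_apply (e.inv ≫ u)
    rw [Adjunction.homEquiv_counit] at this
    exact this
  let v : C ⟶ TT f X := e.hom ≫ (DRing.restrictD φf).map w
  have hv : u = v ≫ (RAdj.coextAdj φf).counit.app X := by
    change u = (e.hom ≫ (DRing.restrictD φf).map w) ≫ (RAdj.coextAdj φf).counit.app X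
    rw [Category.assoc, hw, e.hom_inv_id_assoc]
  have h1 : β ≫ v = 0 := h _
  obtain ⟨s, hs⟩ := Triangle.yoneda_exact₃ _ hT v h1
  change G⟦(1 : ℤ)⟧ ⟶ TT f X at s
  have h2 : s = 0 := by
    have h3 : ∀ i, ElTor f (Dual.HD A (G⟦(1 : ℤ)⟧) i) := fun i =>
      elTor_of_iso (DualShift.shiftHD G 1 i (1 + i) rfl).symm (hG (1 + i))
    exact (subsingleton_of_elTor f _ _ h3 (isIso_smul_restrictD f _)).elim _ _
  rw [hv, hs, h2]
  simp

/-- Triangle `G ⟶ K ⟶ C`, `G` `f`-power torsion, `f` invertible on `C`: upper bounds. -/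
lemma isLE_of_tri {G K C : Dual.D A} {α : G ⟶ K} {β : K ⟶ C} {γ : C ⟶ G⟦(1 : ℤ)⟧}
    (hT : Triangle.mk α β γ ∈ distTriang (Dual.D A)) (hC : IsIso (f • 𝟙 C))
    (hG : ∀ i, ElTor f (Dual.HD A G i)) (n : ℤ) (hK : K.IsLE n) : G.IsLE (n + 1) := by
  have hCn : C.IsLE n := by
    rw [DerivedCategory.isLE_iff]
    intro i hi
    have hz : IsZero ((DerivedCategory.homologyFunctor (ModuleCat.{u} A) i).obj K) :=
      DerivedCategory.isZero_of_isLE K n i hi
    have hex := DerivedCategory.HomologySequence.exact₃ _ hT i (i + 1) rfl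
    have hinj : Mono (DerivedCategory.HomologySequence.δ (Triangle.mk α β γ) i (i + 1) rfl) :=
      hex.mono_g (hz.eq_of_src _ _)
    have hinj' := (ModuleCat.mono_iff_injective _).1 hinj
    have hb := (ConcreteCategory.isIso_iff_bijective _).1 (isIso_smul_homology f C hC i)
    rw [ModuleCat.isZero_iff_subsingleton]
    refine subsingleton_of_forall_eq 0 fun x => ?_
    obtain ⟨m, hm⟩ := hG (i + 1) ((DerivedCategory.HomologySequence.δ (Triangle.mk α β γ) i (i + 1) rfl).hom x)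
    refine pow_smul_injective (f := f) hb.1 m (x := x) ?_
    apply hinj'
    rw [map_zero]
    refine Eq.trans ?_ hm
    exact map_smul (DerivedCategory.HomologySequence.δ (Triangle.mk α β γ) i (i + 1) rfl).hom (f ^ m) x
  rw [DerivedCategory.isLE_iff]
  intro i hi
  have h2 := DerivedCategory.HomologySequence.exact₁ _ hT (i - 1) i (by omega)
  refine h2.isZero_of_both_zeros ?_ ?_
  · exact (DerivedCategory.isZero_of_isLE C n (i - 1) (by omega)).eq_of_src _ _
  · exact (DerivedCategory.isZero_of_isLE K n i (by omega)).eq_of_tgt _ _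

end Amplitude


/-- `Hom(K, X) = 0` for all `X ∈ D^{≤ -1}` (projective amplitude `≥ 0`). -/
def PA (K : Dual.D A) : Prop := ∀ X : Dual.D A, X.IsLE (-1) → ∀ u : K ⟶ X, u = 0

lemma PA.of_iso {K L : Dual.D A} (h : PA K) (e : K ≅ L) : PA L := by
  intro X hX u
  rw [← cancel_epi e.hom, comp_zero]
  exact h X hX _

lemma pa_self : PA (Dual.inD A A) := by
  intro X hX u
  exact hom_projective_eq_zero (ModuleCat.of A A) 0 X (DerivedCategory.isZero_of_isLE X (-1) 0 (by omega)) u

lemma pa_of_tri (f : A) {G K C : Dual.D A} {α : G ⟶ K} {β : K ⟶ C} {γ : C ⟶ G⟦(1 : ℤ)⟧}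
    (hT : Triangle.mk α β γ ∈ distTriang (Dual.D A)) (hC : IsIso (f • 𝟙 C))
    (hG : ∀ i, ElTor f (Dual.HD A G i)) (hK : PA K) : PA G := by
  intro X hX u
  have h1 : ((shiftFunctor (Dual.D A) (-1 : ℤ)).obj C) = C⟦(-1 : ℤ)⟧ := rfl
  -- `Hom(C, X[1]) = 0`
  have h2 : ∀ w : C ⟶ X⟦(1 : ℤ)⟧, w = 0 := by
    intro w
    refine hom_eq_zero_of_TT f hT hC hG (X⟦(1 : ℤ)⟧) ?_ w
    intro v
    -- `T(X[1]) ∈ D^{≤ -1}`
    let e : TT f (X⟦(1 : ℤ)⟧) ≅ (TT f X)⟦(1 : ℤ)⟧ :=
      (DRing.restrictD (algebraMap A (Localization.Away f))).mapIso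
        (RAdj.shiftIso (RAdj.coextAdj (algebraMap A (Localization.Away f))) X 1) ≪≫
      ((DRing.restrictD (algebraMap A (Localization.Away f))).commShiftIso (1 : ℤ)).app _
    have h3 : (TT f X).IsLE 0 := isLE_TT f X hX
    have h4 : ((TT f X)⟦(1 : ℤ)⟧).IsLE (-1) :=
      DerivedCategory.TStructure.t.isLE_shift (TT f X) 0 1 (-1) (by omega)
    rw [← cancel_mono e.hom, zero_comp]
    exact hK _ h4 _
  have hT' := inv_rot_of_distTriang _ hT
  obtain ⟨w, hw⟩ := Triangle.yoneda_exact₂ _ hT' u (GMAbs.orth_shift_left (-1) 1 (by simp) h2 _)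
  change u = α ≫ w at hw
  rw [hw, hK X hX w, comp_zero]

section Refl

variable (I : Ideal A)

/-- bijectivity of precomposition with the second morphism of a triangle whose first object is left orthogonal -/
lemma bijective_precomp₂ {I : Ideal A} {Z Y Y' : Dual.D A} {a : Z ⟶ Y} {b : Y ⟶ Y'}
    {c : Y' ⟶ Z⟦(1 : ℤ)⟧} (hT : Triangle.mk a b c ∈ distTriang (Dual.D A)) (hZ : LO I Z) (X : Dual.D A)
    (hX : DRing.IsDerivedComplete I X) : Function.Bijective (fun v : Y' ⟶ X => b ≫ v) :=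
  bijective_precomp (rot_of_distTriang _ hT) (hZ.shift 1) X hX

/-- `J ⟶ Hom(L₀, J)` is bijective on morphisms to complete objects. -/
def Good (L : Dual.D A) : Prop := ∀ (J : DRing.Cx A) [J.IsKInjective] (_ : ∀ n, Injective (J.X n))
    (L₀ : DRing.Cx A), Nonempty (DRing.toD L₀ ≅ L) →
    ∃ η : DRing.toD J ⟶ DRing.toD (DRing.homCx L₀ J), ∀ Z : Dual.D A, DRing.IsDerivedComplete I Z →
      Function.Bijective (fun v : DRing.toD (DRing.homCx L₀ J) ⟶ Z => η ≫ v)

variable {I}

lemma bijective_precomp_of_iso {X Y Y' : Dual.D A} {η : X ⟶ Y} (e : Y ≅ Y') {Z : Dual.D A}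
    (h : Function.Bijective (fun v : Y ⟶ Z => η ≫ v)) : Function.Bijective (fun v : Y' ⟶ Z => (η ≫ e.hom) ≫ v) := by
  have h1 : (fun v : Y' ⟶ Z => (η ≫ e.hom) ≫ v) = (fun v : Y ⟶ Z => η ≫ v) ∘ (fun v : Y' ⟶ Z => e.hom ≫ v) := by
    funext v
    simp
  rw [h1]
  exact h.comp ⟨fun a b hab => (cancel_epi e.hom).1 hab, fun g => ⟨e.inv ≫ g, by simp⟩⟩

lemma good_self : Good I (Dual.inD A A) := by
  intro J _ hJ L₀ ⟨e⟩
  obtain ⟨e'⟩ := BidualD.nonempty_homCx_iso J (e ≪≫ InjRep.isoInD A)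
  let e₂ : DRing.toD J ≅ DRing.toD (DRing.homCx L₀ J) :=
    (DerivedCategory.Q.mapIso (asIso (theta J))).symm ≪≫ e'.symm
  refine ⟨e₂.hom, fun Z _ => ?_⟩
  exact ⟨fun a b hab => (cancel_epi e₂.hom).1 hab, fun g => ⟨e₂.inv ≫ g, by simp⟩⟩

lemma good_of_tri {f : A} (hf : f ∈ I) {G K C : Dual.D A} {α : G ⟶ K} {β : K ⟶ C} {γ : C ⟶ G⟦(1 : ℤ)⟧}
    (hT : Triangle.mk α β γ ∈ distTriang (Dual.D A)) (hC : IsIso (f • 𝟙 C)) (hK : Good I K) : Good I G := by
  intro J _ hJ G₀ ⟨e⟩
  obtain ⟨S, hS, ⟨e₁⟩, ⟨e₂⟩, ⟨e₃⟩⟩ := RHomApprox.exists_ses hT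
  obtain ⟨η, hη⟩ := hK J hJ S.X₂ ⟨e₂⟩
  have hS' := homCxSC_shortExact J hS hJ
  have hT' := DerivedCategory.triangleOfSES_distinguished hS'
  have hZ : IsIso (f • 𝟙 (DRing.toD (DRing.homCx S.X₃ J))) :=
    RHomApprox.isIso_smul_homCx f S.X₃ J (isIso_smul_of_iso e₃.symm hC)
  have hlo : LO I (DRing.toD (DRing.homCx S.X₃ J)) := lo_of_isIso_smul hf hZ
  let b : DRing.toD (DRing.homCx S.X₂ J) ⟶ DRing.toD (DRing.homCx S.X₁ J) :=
    (DerivedCategory.triangleOfSES hS').mor₂
  obtain ⟨e₄⟩ := BidualD.nonempty_homCx_iso J (e₁ ≪≫ e.symm)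
  refine ⟨(η ≫ b) ≫ e₄.hom, fun Z hZc => ?_⟩
  apply bijective_precomp_of_iso e₄
  have h1 : (fun v : DRing.toD (DRing.homCx S.X₁ J) ⟶ Z => (η ≫ b) ≫ v) =
      (fun v => η ≫ v) ∘ (fun v => b ≫ v) := by
    funext v
    simp
  rw [h1]
  exact (hη Z hZc).comp (bijective_precomp₂ hT' hlo Z hZc)

end Refl

/-- Iterated localization triangles. -/
theorem exists_tors (l : List A) (K : Dual.D A) :
    ∃ G : Dual.D A, (∀ f ∈ l, ∀ i, ElTor f (Dual.HD A G i)) ∧
      (∀ g : A, (∀ i, ElTor g (Dual.HD A K i)) → ∀ i, ElTor g (Dual.HD A G i)) ∧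
      ∀ P : ℕ → Dual.D A → Prop, P 0 K →
        (∀ (n : ℕ) (f : A), f ∈ l → ∀ (G K C : Dual.D A) (α : G ⟶ K) (β : K ⟶ C) (γ : C ⟶ G⟦(1 : ℤ)⟧),
          Triangle.mk α β γ ∈ distTriang (Dual.D A) → IsIso (f • 𝟙 C) → (∀ i, ElTor f (Dual.HD A G i)) →
          P n K → P (n + 1) G) → P l.length G := by
  induction l generalizing K with
  | nil => exact ⟨K, by simp, fun g h => h, fun P h _ => h⟩
  | cons f l ih =>
    obtain ⟨K₁, C, α, β, γ, hT, hC, hf, hg⟩ := exists_locTri f K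
    obtain ⟨G, h1, h2, h3⟩ := ih K₁
    refine ⟨G, ?_, fun g h => h2 g (hg g h), fun P hP hstep => ?_⟩
    · intro g hgl
      rcases List.mem_cons.1 hgl with rfl | hgl
      · exact h2 _ hf
      · exact h1 g hgl
    · exact h3 (fun n => P (n + 1)) (hstep 0 f List.mem_cons_self K₁ K C α β γ hT hC hf hP)
        fun n g hgl => hstep (n + 1) g (List.mem_cons_of_mem _ hgl)

/-- The torsion kernel. -/
theorem exists_kernel (I : Ideal A) (l : List A) (hl : Ideal.span {x | x ∈ l} = I) :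
    ∃ G : Dual.D A, IsTors I G ∧ G.IsLE l.length ∧ PA G ∧ Good I G ∧ ∃ α : G ⟶ Dual.inD A A, IsApprox I α := by
  obtain ⟨G, h1, -, h3⟩ := exists_tors l (Dual.inD A A)
  have hl' : ∀ f ∈ l, f ∈ I := fun f hf => hl ▸ Ideal.subset_span hf
  have hG : IsTors I G := fun i => HDIBasic.isPowerTorsion_of_elTor l I hl.symm _ fun f hf => h1 f hf i
  refine ⟨G, hG, ?_, ?_, ?_, ?_⟩
  · refine h3 (fun n X => X.IsLE n) ?_ ?_
    · change (Dual.inD A A).IsLE (0 : ℤ)
      infer_instance
    · intro n f _ G K C α β γ hT hC hG hK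
      have := isLE_of_tri f hT hC hG n hK
      change G.IsLE ((n + 1 : ℕ) : ℤ)
      rwa [Nat.cast_add, Nat.cast_one]
  · exact h3 (fun _ X => PA X) pa_self fun n f _ G K C α β γ hT hC hG hK => pa_of_tri f hT hC hG hK
  · exact h3 (fun _ X => Good I X) good_self fun n f hf G K C α β γ hT hC hG hK => good_of_tri (hl' f hf) hT hC hK
  · have key := h3 (fun _ X => ∃ α : X ⟶ Dual.inD A A, ∀ T : Dual.D A, IsTors I T →
      Function.Bijective (fun φ : T ⟶ X => φ ≫ α)) ⟨𝟙 _, fun T _ => bij_comp_hom T (Iso.refl _)⟩ (by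
      rintro n f hf G L C α β γ hT hC - ⟨ε, hε⟩
      refine ⟨α ≫ ε, fun T hTt => ?_⟩
      have h3 : ∀ j : ℤ, Subsingleton (T ⟶ C⟦j⟧) := fun j => by
        refine subsingleton_of_elTor f T _ (fun i => hTt.elTor (hl' f hf) i) ?_
        have : f • 𝟙 (C⟦j⟧) = (f • 𝟙 C)⟦j⟧' := by
          rw [Functor.map_smul, CategoryTheory.Functor.map_id]
        rw [this]
        infer_instance
      have h4 := HDIBasic.bijective_comp_shift hT T h3 0
      have h5 : Function.Bijective (fun φ : T ⟶ G => φ ≫ α) := by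
        let eG := (shiftFunctorZero (Dual.D A) ℤ).app G
        let eL := (shiftFunctorZero (Dual.D A) ℤ).app L
        have h6 : (fun φ : T ⟶ G => φ ≫ α) = (fun φ : T ⟶ L⟦(0 : ℤ)⟧ => φ ≫ eL.hom) ∘
            (fun φ : T ⟶ G⟦(0 : ℤ)⟧ => φ ≫ α⟦(0 : ℤ)⟧') ∘ (fun φ : T ⟶ G => φ ≫ eG.inv) := by
          funext φ
          simp only [Function.comp, Category.assoc]
          congr 1
          have := (shiftFunctorZero (Dual.D A) ℤ).hom.naturality α
          simp only [Functor.id_map] at this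
          rw [eq_comm, Iso.inv_comp_eq]
          exact this
        rw [h6]
        exact (bij_comp_hom T eL).comp (h4.comp (bij_comp_inv T eG))
      have h7 : (fun φ : T ⟶ G => φ ≫ α ≫ ε) = (fun φ : T ⟶ L => φ ≫ ε) ∘ (fun φ : T ⟶ G => φ ≫ α) := by
        funext φ
        simp
      rw [h7]
      exact (hε T hTt).comp h5)
    obtain ⟨α, hα⟩ := key
    exact ⟨α, hG, hα⟩

/-- Existence of reflections, with their values: for `G` a torsion kernel, `Hom(G₀, J)` is the completion of `J`. -/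
theorem isRefl_homCx {I : Ideal A} {G : Dual.D A} (hG : IsTors I G) (hGood : Good I G)
    (J : DRing.Cx A) [J.IsKInjective] (hJ : ∀ n, Injective (J.X n)) (G₀ : DRing.Cx A)
    (e : DRing.toD G₀ ≅ G) : ∃ η : DRing.toD J ⟶ DRing.toD (DRing.homCx G₀ J),
      GMAbs.IsRefl (DRing.IsDerivedComplete I) η := by
  obtain ⟨η, hη⟩ := hGood J hJ G₀ ⟨e⟩
  exact ⟨η, Orth.isRefl_of_bijective (isDerivedComplete_homCx I G₀ J (hG.of_iso e.symm)) hη⟩

/-- Derived completion exists for finitely generated ideals. -/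
theorem hasDerivedCompletion (I : Ideal A) (hI : I.FG) : DRing.HasDerivedCompletion I := by
  obtain ⟨s, hs⟩ := hI
  have hl : Ideal.span {x | x ∈ s.toList} = I := by
    rw [← hs]
    congr 1
    ext x
    simp
  obtain ⟨G, h1, -, -, h4, -⟩ := exists_kernel I s.toList hl
  apply hasDerivedCompletion_of_refl
  intro K
  obtain ⟨J, hJ₁, hJ₂, ⟨e⟩⟩ := KInjD.exists_res' A K
  obtain ⟨η, hη⟩ := isRefl_homCx h1 h4 J hJ₂ (DerivedCategory.Q.objPreimage G)
    (DerivedCategory.Q.objObjPreimageIso G)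
  refine ⟨_, e.inv ≫ η, hη.mem, fun Z hZ u => ?_, fun Z hZ v w hvw => ?_⟩
  · obtain ⟨v, hv⟩ := hη.exists_desc Z hZ (e.hom ≫ u)
    exact ⟨v, by rw [Category.assoc, hv, e.inv_hom_id_assoc]⟩
  · apply hη.ext Z hZ
    rw [← cancel_epi e.inv]
    simpa using hvw

end K231.Kernel
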