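import Groth.Agent.DRing.K231.AdicRefl
import Groth.Agent.DRing.K231.Kernel
import Groth.Agent.DRing.K230.DCAdic
import Groth.Agent.S0543
import Mathlib.RingTheory.AdicCompletion.Noetherian

/-!
# Derived complete modules over a Noetherian ring with finite reduction
-/

set_option autoImplicit false

universe u

open CategoryTheory Limits

attribute [local instance] HasDerivedCategory.standard

namespace K231.AdicMod

open Groth.Agent.LoccohB K230.DCLink

variable {A : Type u} [CommRing A] [IsNoetherianRing A] (I : Ideal A)

section Univ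

variable {X : Type u} [AddCommGroup X] [Module A X] (hX : DRing.IsDerivedComplete I (Dual.inD A X))

include hX

lemma hom_bijective (M : Type u) [AddCommGroup M] [Module A M] [Module.Finite A M] :
    Function.Bijective (fun u : AdicCompletion I M →ₗ[A] X => u ∘ₗ AdicCompletion.of I M) := by
  have : DRing.HasDerivedCompletion I := K231.Kernel.hasDerivedCompletion I (IsNoetherian.noetherian I)
  have h := K231.Orth.bijective_of_isRefl (AdicRefl.isRefl_of_finite I M) (Dual.inD A X) hX
  constructor
  · intro u v huv
    have h1 : ModuleCat.ofHom (AdicCompletion.of I M) ≫ ModuleCat.ofHom u =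
        ModuleCat.ofHom (AdicCompletion.of I M) ≫ ModuleCat.ofHom v := ModuleCat.hom_ext huv
    have h2 := congrArg (DerivedCategory.singleFunctor (ModuleCat.{u} A) 0).map h1
    rw [Functor.map_comp, Functor.map_comp] at h2
    have h3 := (DerivedCategory.singleFunctor (ModuleCat.{u} A) 0).map_injective (h.1 h2)
    exact congrArg ModuleCat.Hom.hom h3
  · intro f
    obtain ⟨v, hv⟩ := h.2 ((DerivedCategory.singleFunctor (ModuleCat.{u} A) 0).map (ModuleCat.ofHom f))
    obtain ⟨g, rfl⟩ := (DerivedCategory.singleFunctor (ModuleCat.{u} A) 0).map_surjective v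
    dsimp only at hv
    rw [← Functor.map_comp] at hv
    have h3 := (DerivedCategory.singleFunctor (ModuleCat.{u} A) 0).map_injective hv
    exact ⟨g.hom, congrArg ModuleCat.Hom.hom h3⟩

lemma hom_ext {u v : AdicCompletion I A →ₗ[A] X} (h : ∀ a : A, u (AdicCompletion.of I A a) = v (AdicCompletion.of I A a)) :
    u = v :=
  (hom_bijective I hX A).1 (LinearMap.ext h)

lemma exists_hom (x : X) : ∃ u : AdicCompletion I A →ₗ[A] X, ∀ a : A, u (AdicCompletion.of I A a) = a • x := by
  obtain ⟨u, hu⟩ := (hom_bijective I hX A).2 (LinearMap.toSpanSingleton A X x)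
  exact ⟨u, fun a => LinearMap.congr_fun hu a⟩

end Univ

lemma isNoetherianRing : IsNoetherianRing (AdicCompletion I A) := Groth.Agent.S0543.result A I

lemma map_le_jacobson : I.map (algebraMap A (AdicCompletion I A)) ≤ (⊥ : Ideal (AdicCompletion I A)).jacobson := by
  have h1 : IsAdicComplete I (AdicCompletion I A) := AdicCompletion.isAdicComplete (IsNoetherian.noetherian I)
  have h2 : IsAdicComplete (I.map (algebraMap A (AdicCompletion I A))) (AdicCompletion I A) :=
    (IsAdicComplete.map_algebraMap_iff I _).2 h1
  exact IsAdicComplete.le_jacobson_bot _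

/-- finite modules over the completion are `I`-adically separated -/
lemma isHausdorff (Q : Type u) [AddCommGroup Q] [Module A Q] [Module (AdicCompletion I A) Q]
    [IsScalarTower A (AdicCompletion I A) Q] [Module.Finite (AdicCompletion I A) Q] : IsHausdorff I Q := by
  have := isNoetherianRing I
  rw [← IsHausdorff.map_algebraMap_iff (S := AdicCompletion I A)]
  exact IsHausdorff.of_le_jacobson _ _ (map_le_jacobson I)

theorem main (M : Type u) [AddCommGroup M] [Module A M]
    (hc : DRing.IsDerivedComplete I (Dual.inD A M))
    (hf : Module.Finite A (M ⧸ I • (⊤ : Submodule A M))) :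
    IsAdicComplete I M ∧ Module.Finite (AdicCompletion I A) (AdicCompletion I M) := by
  have hdc : ∀ f ∈ I, K230.DCSeq.DC f M := (isDerivedComplete_inD_iff I M).1 hc
  have hB : DRing.IsDerivedComplete I (Dual.inD A (AdicCompletion I A)) :=
    AdicRefl.isDerivedComplete_adicCompletion I A
  have hdcB : ∀ f ∈ I, K230.DCSeq.DC f (AdicCompletion I A) := (isDerivedComplete_inD_iff I _).1 hB
  obtain ⟨n, s, hs⟩ := Module.Finite.exists_fin (R := A) (M := M ⧸ I • (⊤ : Submodule A M))
  choose m hm using fun i => Submodule.mkQ_surjective (I • (⊤ : Submodule A M)) (s i)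
  choose u hu using fun i => exists_hom I hc (m i)
  let φ : (Fin n → AdicCompletion I A) →ₗ[A] M := ∑ i, u i ∘ₗ LinearMap.proj i
  have hφ : ∀ b, φ b = ∑ i, u i (b i) := fun b => by simp [φ]
  have hm1 : ∀ i, m i ∈ LinearMap.range φ := fun i => by
    refine ⟨Pi.single i (AdicCompletion.of I A 1), ?_⟩
    rw [hφ, Finset.sum_eq_single i, Pi.single_eq_same, hu, one_smul]
    · intro j _ hj
      rw [Pi.single_eq_of_ne hj, map_zero]
    · intro h; exact absurd (Finset.mem_univ i) h
  -- `φ` is surjective
  have hsurj : Function.Surjective φ := by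
    rw [← LinearMap.range_eq_top]
    have h1 : Subsingleton (M ⧸ LinearMap.range φ) := by
      refine K230.DCAdic.nakayama (IsNoetherian.noetherian I) _ (fun f hf' => ?_) ?_
      · exact (K230.DCSeq.DC.pi fun _ => hdcB f hf').coker (hdc f hf') φ
      · rw [eq_top_iff]
        rintro y -
        obtain ⟨x, rfl⟩ := Submodule.mkQ_surjective _ y
        have h2 : (I • (⊤ : Submodule A M)).mkQ x ∈ Submodule.span A (Set.range s) := by rw [hs]; trivial
        have h3 : Submodule.span A (Set.range s) ≤
            Submodule.map (I • (⊤ : Submodule A M)).mkQ (LinearMap.range φ) := by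
          rw [Submodule.span_le]
          rintro _ ⟨i, rfl⟩
          exact ⟨m i, hm1 i, hm i⟩
        obtain ⟨z, hz, hzx⟩ := h3 h2
        have h4 : x - z ∈ I • (⊤ : Submodule A M) := by
          rw [← Submodule.Quotient.eq]
          exact hzx.symm
        have h5 : (LinearMap.range φ).mkQ x = (LinearMap.range φ).mkQ (x - z) := by
          rw [map_sub, Submodule.mkQ_apply _ z, (Submodule.Quotient.mk_eq_zero _).2 hz, sub_zero]
        rw [h5]
        have h6 : Submodule.map (LinearMap.range φ).mkQ (I • (⊤ : Submodule A M)) ≤ I • ⊤ := by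
          rw [Submodule.map_smul'']
          exact Submodule.smul_mono le_rfl le_top
        exact h6 ⟨_, h4, rfl⟩
    exact Submodule.Quotient.subsingleton_iff.1 h1
  -- the kernel of `φ` is a submodule over the completion
  let L : Submodule (AdicCompletion I A) (Fin n → AdicCompletion I A) :=
    { carrier := {x | φ x = 0}
      add_mem' := fun {x y} hx hy => by
        change φ (x + y) = 0
        rw [map_add, hx, hy, add_zero]
      zero_mem' := map_zero φ
      smul_mem' := fun b x hx => by
        let v : AdicCompletion I A →ₗ[A] M := φ ∘ₗ (LinearMap.toSpanSingleton (AdicCompletion I A)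
          (Fin n → AdicCompletion I A) x).restrictScalars A
        have hv : v = 0 := by
          refine hom_ext I hc fun a => ?_
          change φ (AdicCompletion.of I A a • x) = 0
          have : AdicCompletion.of I A a • x = a • x := by
            rw [← algebraMap_smul (AdicCompletion I A) a x]
            rfl
          rw [this, map_smul]
          exact (congrArg (a • ·) hx).trans (smul_zero a)
        exact LinearMap.congr_fun hv b }
  have hL : L.restrictScalars A = LinearMap.ker φ := rfl
  let e : ((Fin n → AdicCompletion I A) ⧸ L.restrictScalars A) ≃ₗ[A] M :=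
    (Submodule.quotEquivOfEq _ _ hL).trans (φ.quotKerEquivOfSurjective hsurj)
  let e' : ((Fin n → AdicCompletion I A) ⧸ L) ≃ₗ[A] M :=
    (Submodule.Quotient.restrictScalarsEquiv A L).symm.trans e
  have hH : IsHausdorff I ((Fin n → AdicCompletion I A) ⧸ L) := isHausdorff I _
  have hH' : IsHausdorff I M := by
    refine ⟨fun x hx => ?_⟩
    apply e'.symm.injective
    rw [map_zero]
    refine hH.haus' _ fun k => ?_
    have h1 := hx k
    rw [SModEq.zero] at h1 ⊢
    have h2 : Submodule.map e'.symm.toLinearMap (I ^ k • (⊤ : Submodule A M)) ≤ I ^ k • ⊤ := by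
      rw [Submodule.map_smul'']
      exact Submodule.smul_mono le_rfl le_top
    exact h2 ⟨x, h1, rfl⟩
  have hP : IsPrecomplete I M := K230.DCAdic.isPrecomplete (IsNoetherian.noetherian I) hdc
  have hC : IsAdicComplete I M := { }
  refine ⟨hC, ?_⟩
  have hM' : DRing.IsDerivedComplete I (Dual.inD A (AdicCompletion I M)) :=
    AdicRefl.isDerivedComplete_adicCompletion I M
  let ψ : (Fin n → AdicCompletion I A) →ₗ[AdicCompletion I A] AdicCompletion I M :=
    ∑ i, (LinearMap.toSpanSingleton (AdicCompletion I A) _ (AdicCompletion.of I M (m i))) ∘ₗ LinearMap.proj i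
  have hψ : ∀ b, ψ b = ∑ i, b i • AdicCompletion.of I M (m i) := fun b => by simp [ψ]
  refine Module.Finite.of_surjective ψ fun y => ?_
  obtain ⟨x, rfl⟩ := AdicCompletion.of_surjective I M y
  obtain ⟨b, rfl⟩ := hsurj x
  refine ⟨b, ?_⟩
  rw [hψ, hφ, map_sum]
  refine Finset.sum_congr rfl fun i _ => ?_
  have h1 : (LinearMap.toSpanSingleton (AdicCompletion I A) _ (AdicCompletion.of I M (m i))).restrictScalars A =
      AdicCompletion.of I M ∘ₗ u i := by
    refine hom_ext I hM' fun a => ?_
    rw [LinearMap.comp_apply, hu, map_smul]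
    change AdicCompletion.of I A a • AdicCompletion.of I M (m i) = a • AdicCompletion.of I M (m i)
    rw [← algebraMap_smul (AdicCompletion I A) a (AdicCompletion.of I M (m i))]
    rfl
  exact LinearMap.congr_fun h1 (b i)

end K231.AdicMod
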