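import Groth.Agent.LoccohB.RlimComp3
import Groth.Agent.DRing.K230.DCMore
import Groth.Agent.DRing.K230.DCLink
import Mathlib.RingTheory.AdicCompletion.Completeness

/-!
# `X[0] ⟶ X^[0]` is a derived completion when the tower `I ^ n X` is pro-zero for the Koszul objects
-/

set_option autoImplicit false

universe u v w

open CategoryTheory Limits Opposite Pretriangulated CochainComplex CochainComplex.HomComplex

attribute [local instance] HasDerivedCategory.standard

namespace K231.AdicRefl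

open Groth.Agent.LoccohB ProZ KosP HomCls

section Cocycle

variable {C : Type u} [Category.{v} C] [Abelian C] [HasDerivedCategory.{w} C]
variable {K : CochainComplex C ℤ} {X : C}

lemma tcl_eq_zero_iff [K.IsKProjective] {p n : ℤ} (h : p + n = 0) (f : K.X p ⟶ X)
    (hf : K.d (p - 1) p ≫ f = 0) (q : ℤ) (hq : p + 1 = q) :
    tcl h f hf = 0 ↔ ∃ g : K.X q ⟶ X, K.d p q ≫ g = f := by
  rw [tcl]
  exact (hcls_eq_zero_iff_of_kProj _).trans
    (Cocycle.toSingleMk_mem_coboundaries_iff f h (p - 1) (by omega) hf q hq)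

end Cocycle

section Elem

variable {A : Type u} [CommRing A] (I : Ideal A) (X : Type u) [AddCommGroup X] [Module A X]
variable (K : CochainComplex (ModuleCat.{u} A) ℤ)

/-- elementary form of pro-vanishing of the tower `I ^ n X` as seen by the complex `K` -/
def EZ : Prop := ∀ (p' p q : ℤ) (_ : p' + 1 = p) (_ : p + 1 = q) (n : ℕ), ∃ m : ℕ, n ≤ m ∧
  ∀ f : K.X p →ₗ[A] X, (∀ x, f x ∈ (I ^ m • ⊤ : Submodule A X)) → f ∘ₗ (K.d p' p).hom = 0 →
    ∃ g : K.X q →ₗ[A] X, (∀ x, g x ∈ (I ^ n • ⊤ : Submodule A X)) ∧ g ∘ₗ (K.d p q).hom = f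

variable {I X K}

lemma EZ.of_pz [K.IsKProjective] (h : PZ (DerivedCategory.Q.obj K)
    (powM I X ⋙ DerivedCategory.singleFunctor (ModuleCat.{u} A) 0)) : EZ I X K := by
  rintro p' p q hp hq n
  obtain rfl : p' = p - 1 := by omega
  obtain ⟨m, hm, H⟩ := h (-p) n
  have hpn : p + -p = 0 := by omega
  refine ⟨m, hm, fun f hf hf' => ?_⟩
  let f₁ : K.X p ⟶ ModuleCat.of A (powSub I X m) := ModuleCat.ofHom (f.codRestrict _ hf)
  have hf₁ : K.d (p - 1) p ≫ f₁ = 0 := by
    ext x
    exact LinearMap.congr_fun hf' x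
  have h1 := H (tcl hpn f₁ hf₁)
  have h2 := tcl_postcomp hpn f₁ hf₁ ((powM I X).map (homOfLE hm).op)
  have h3 : tcl hpn (f₁ ≫ (powM I X).map (homOfLE hm).op) (by
      rw [← Category.assoc, hf₁, zero_comp]) = 0 := h2.trans h1
  rw [tcl_eq_zero_iff hpn _ _ q hq] at h3
  obtain ⟨g, hg⟩ := h3
  refine ⟨(powSub I X n).subtype ∘ₗ g.hom, fun x => (g.hom x).2, ?_⟩
  ext x
  have h4 := congrArg (fun t => ((powSub I X n).subtype (t.hom x))) hg
  exact h4

end Elem

section Main

variable {A : Type u} [CommRing A] {I : Ideal A} {X : Type u} [AddCommGroup X] [Module A X]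
variable {K : CochainComplex (ModuleCat.{u} A) ℤ}

lemma eval_sub_mem {x y : X} (n : ℕ) (h : (AdicCompletion.of I X x).val n = (AdicCompletion.of I X y).val n) :
    x - y ∈ (I ^ n • ⊤ : Submodule A X) := by
  rw [AdicCompletion.of_apply, AdicCompletion.of_apply, Submodule.mkQ_apply, Submodule.mkQ_apply,
    Submodule.Quotient.eq] at h
  exact h

lemma val_le {n m : ℕ} (h : n ≤ m) {x y : AdicCompletion I X} (hxy : x.val m = y.val m) : x.val n = y.val n := by
  rw [← AdicCompletion.transitionMap_comp_eval_apply I X h x, ← AdicCompletion.transitionMap_comp_eval_apply I X h y,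
    hxy]

/-- lifting to `X` of a map to the completion, modulo `I ^ m` -/
lemma exists_lift {P : Type u} [AddCommGroup P] [Module A P] [Module.Projective A P]
    (f : P →ₗ[A] AdicCompletion I X) (m : ℕ) :
    ∃ g : P →ₗ[A] X, ∀ x, (AdicCompletion.of I X (g x)).val m = (f x).val m := by
  obtain ⟨g, hg⟩ := Module.projective_lifting_property (Submodule.mkQ (I ^ m • ⊤ : Submodule A X))
    (AdicCompletion.eval I X m ∘ₗ f) (Submodule.mkQ_surjective _)
  exact ⟨g, fun x => LinearMap.congr_fun hg x⟩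

lemma injective_of_ez (hK : EZ I X K) (hproj : ∀ i, Module.Projective A (K.X i))
    (p' p q : ℤ) (hp : p' + 1 = p) (hq : p + 1 = q) (f : K.X p →ₗ[A] X) (hf : f ∘ₗ (K.d p' p).hom = 0)
    (g : K.X q →ₗ[A] AdicCompletion I X) (hg : g ∘ₗ (K.d p q).hom = AdicCompletion.of I X ∘ₗ f) :
    ∃ g' : K.X q →ₗ[A] X, g' ∘ₗ (K.d p q).hom = f := by
  obtain ⟨m, hm, H⟩ := hK p' p q hp hq 0
  have := hproj q
  obtain ⟨g₁, hg₁⟩ := exists_lift g m
  have hdd : (K.d p q).hom ∘ₗ (K.d p' p).hom = 0 := by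
    have := K.d_comp_d p' p q
    exact congrArg ModuleCat.Hom.hom this
  obtain ⟨g₂, -, hg₂⟩ := H (f - g₁ ∘ₗ (K.d p q).hom) (fun x => by
    apply eval_sub_mem m
    rw [LinearMap.comp_apply, hg₁]
    exact congrArg (fun t => t.val m) (LinearMap.congr_fun hg x).symm) (by
    rw [LinearMap.sub_comp, hf, LinearMap.comp_assoc, hdd, LinearMap.comp_zero, sub_zero])
  refine ⟨g₁ + g₂, ?_⟩
  rw [LinearMap.add_comp, hg₂, add_sub_cancel]

lemma exists_cocyc (hK : EZ I X K) (hproj : ∀ i, Module.Projective A (K.X i))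
    (p' p : ℤ) (hp : p' + 1 = p) (f : K.X p →ₗ[A] AdicCompletion I X)
    (hf : f ∘ₗ (K.d p' p).hom = 0) (n : ℕ) :
    ∃ c : K.X p →ₗ[A] X, c ∘ₗ (K.d p' p).hom = 0 ∧
      ∀ x, (AdicCompletion.of I X (c x)).val n = (f x).val n := by
  obtain ⟨m, hm, H⟩ := hK (p' - 1) p' p (by omega) hp n
  have := hproj p
  obtain ⟨h, hh⟩ := exists_lift f m
  have hdd : (K.d p' p).hom ∘ₗ (K.d (p' - 1) p').hom = 0 := by
    have := K.d_comp_d (p' - 1) p' p
    exact congrArg ModuleCat.Hom.hom this
  obtain ⟨g, hg, hg'⟩ := H (h ∘ₗ (K.d p' p).hom) (fun x => by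
    rw [← sub_zero ((h ∘ₗ (K.d p' p).hom) x)]
    apply eval_sub_mem m
    rw [LinearMap.comp_apply, hh, map_zero]
    exact congrArg (fun t => t.val m) (LinearMap.congr_fun hf x)) (by
    rw [LinearMap.comp_assoc, hdd, LinearMap.comp_zero])
  refine ⟨h - g, ?_, fun x => ?_⟩
  · rw [LinearMap.sub_comp, hg', sub_self]
  · have h1 : (AdicCompletion.of I X (g x)).val n = 0 := by
      rw [AdicCompletion.of_apply, Submodule.mkQ_apply, Submodule.Quotient.mk_eq_zero]
      exact hg x
    rw [LinearMap.sub_apply, map_sub, AdicCompletion.val_sub_apply, h1, sub_zero]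
    exact val_le hm (hh x)

lemma surjective_of_ez (hK : EZ I X K) (hproj : ∀ i, Module.Projective A (K.X i))
    (p' p q : ℤ) (hp : p' + 1 = p) (hq : p + 1 = q) (f : K.X p →ₗ[A] AdicCompletion I X)
    (hf : f ∘ₗ (K.d p' p).hom = 0) :
    ∃ (c : K.X p →ₗ[A] X) (g : K.X q →ₗ[A] AdicCompletion I X), c ∘ₗ (K.d p' p).hom = 0 ∧
      f = AdicCompletion.of I X ∘ₗ c + g ∘ₗ (K.d p q).hom := by
  choose m hm H using hK p' p q hp hq
  let M : ℕ → ℕ := fun n => ∑ k ∈ Finset.range (n + 1), m k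
  have hM1 : ∀ n, m n ≤ M n := fun n =>
    Finset.single_le_sum (f := m) (fun _ _ => Nat.zero_le _) (Finset.mem_range.2 (Nat.lt_succ_self n))
  have hM2 : ∀ n, M n ≤ M (n + 1) := fun n => by
    change _ ≤ ∑ k ∈ Finset.range (n + 1 + 1), m k
    rw [Finset.sum_range_succ]
    exact Nat.le_add_right _ _
  choose c hc hc' using fun n => exists_cocyc hK hproj p' p hp f hf (M n)
  have hcc : ∀ n, ∃ g : K.X q →ₗ[A] X, (∀ x, g x ∈ (I ^ n • ⊤ : Submodule A X)) ∧
      g ∘ₗ (K.d p q).hom = c (n + 1) - c n := by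
    intro n
    refine H n (c (n + 1) - c n) (fun x => ?_) ?_
    · apply eval_sub_mem
      refine val_le (hM1 n) ?_
      rw [hc' n]
      exact val_le (hM2 n) (hc' (n + 1) x)
    · rw [LinearMap.sub_comp, hc, hc, sub_zero]
  choose g hg hg' using hcc
  let G : ∀ n, K.X q →ₗ[A] X := fun n => ∑ k ∈ Finset.range n, g k
  have hG : ∀ n, G (n + 1) = G n + g n := fun n => Finset.sum_range_succ _ _
  have hG' : ∀ n m (_ : n ≤ m) (x : K.X q), G m x - G n x ∈ (I ^ n • ⊤ : Submodule A X) := by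
    intro n m hnm x
    induction m, hnm using Nat.le_induction with
    | base => rw [sub_self]; exact Submodule.zero_mem _
    | succ m hm' ih =>
      rw [hG, LinearMap.add_apply, add_sub_right_comm]
      exact Submodule.add_mem _ ih (Submodule.smul_mono (Ideal.pow_le_pow_right hm') le_rfl (hg m x))
  let ĝ : K.X q →ₗ[A] AdicCompletion I X := AdicCompletion.lift I
    (fun n => (Submodule.mkQ (I ^ n • ⊤ : Submodule A X)) ∘ₗ G n) (by
      intro n m hnm
      ext x
      rw [LinearMap.comp_apply, LinearMap.comp_apply, LinearMap.comp_apply]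
      have h1 : AdicCompletion.transitionMap I X hnm ((Submodule.mkQ (I ^ m • ⊤ : Submodule A X)) (G m x)) =
        (Submodule.mkQ (I ^ n • ⊤ : Submodule A X)) (G m x) := rfl
      refine h1.trans ?_
      rw [Submodule.mkQ_apply, Submodule.mkQ_apply, Submodule.Quotient.eq]
      exact hG' n m hnm x)
  refine ⟨c 0, ĝ, hc 0, ?_⟩
  refine LinearMap.ext fun x => ?_
  refine AdicCompletion.ext fun n => ?_
  have h1 : ∀ n, c n x = c 0 x + G n ((K.d p q).hom x) := by
    intro n
    induction n with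
    | zero => simp [G]
    | succ n ih =>
      rw [hG, LinearMap.add_apply]
      have h2 := LinearMap.congr_fun (hg' n) x
      rw [LinearMap.comp_apply, LinearMap.sub_apply] at h2
      rw [h2, ← add_assoc, ← ih, add_sub_cancel]
  have h3 : (f x).val n = (AdicCompletion.of I X (c n x)).val n :=
    (val_le ((hm n).trans (hM1 n)) (hc' n x)).symm
  rw [h3, h1 n, map_add]
  rfl

/-- Bijectivity of `Hom(K, X[e]) ⟶ Hom(K, X^[e])`. -/
theorem bijective_of_ez [K.IsKProjective] (hK : EZ I X K) (hproj : ∀ i, Module.Projective A (K.X i)) (e : ℤ) :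
    Function.Bijective (fun x : DerivedCategory.Q.obj K ⟶ (Dual.inD A X)⟦e⟧ =>
      x ≫ ((DerivedCategory.singleFunctor (ModuleCat.{u} A) 0).map
        (ModuleCat.ofHom (AdicCompletion.of I X)))⟦e⟧') := by
  have hpn : -e + e = 0 := neg_add_cancel e
  constructor
  · intro x y hxy
    dsimp only at hxy
    rw [← sub_eq_zero, ← Preadditive.sub_comp] at hxy
    rw [← sub_eq_zero]
    generalize x - y = z at hxy
    obtain ⟨f, hf, rfl⟩ := tcl_surjective (K := K) (X := ModuleCat.of A X) hpn z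
    have h2 : tcl hpn (f ≫ ModuleCat.ofHom (AdicCompletion.of I X)) (by rw [← Category.assoc, hf, zero_comp]) = 0 :=
      (tcl_postcomp hpn f hf (ModuleCat.ofHom (AdicCompletion.of I X))).trans hxy
    rw [tcl_eq_zero_iff hpn _ _ (-e + 1) rfl] at h2
    obtain ⟨g, hg⟩ := h2
    obtain ⟨g', hg'⟩ := injective_of_ez hK hproj (-e - 1) (-e) (-e + 1) (by omega) rfl f.hom
      (congrArg ModuleCat.Hom.hom hf) g.hom (congrArg ModuleCat.Hom.hom hg)
    exact (tcl_eq_zero_iff hpn f hf (-e + 1) rfl).2 ⟨ModuleCat.ofHom g', ModuleCat.hom_ext hg'⟩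
  · intro y
    obtain ⟨f, hf, rfl⟩ := tcl_surjective (K := K) (X := ModuleCat.of A (AdicCompletion I X)) hpn y
    obtain ⟨c, g, hc, hcg⟩ := surjective_of_ez hK hproj (-e - 1) (-e) (-e + 1) (by omega) rfl f.hom
      (congrArg ModuleCat.Hom.hom hf)
    have hc₁ : K.d (-e - 1) (-e) ≫ ModuleCat.ofHom c = 0 := by
      ext x; exact LinearMap.congr_fun hc x
    refine ⟨tcl hpn (X := ModuleCat.of A X) (ModuleCat.ofHom c) hc₁, ?_⟩
    have h2 := tcl_postcomp hpn (X := ModuleCat.of A X) (ModuleCat.ofHom c) hc₁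
      (ModuleCat.ofHom (AdicCompletion.of I X))
    refine h2.symm.trans ?_
    have hd : K.d (-e - 1) (-e) ≫ (K.d (-e) (-e + 1) ≫ (ModuleCat.ofHom g : _ ⟶ ModuleCat.of A (AdicCompletion I X))) = 0 := by
      rw [← Category.assoc, K.d_comp_d, zero_comp]
    have hc₂ : K.d (-e - 1) (-e) ≫ ((ModuleCat.ofHom c : _ ⟶ ModuleCat.of A X) ≫
        ModuleCat.ofHom (AdicCompletion.of I X)) = 0 := by
      rw [← Category.assoc, hc₁, zero_comp]
    have h3 : tcl hpn (K.d (-e) (-e + 1) ≫ (ModuleCat.ofHom g : _ ⟶ ModuleCat.of A (AdicCompletion I X))) hd = 0 := by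
      rw [tcl_eq_zero_iff hpn _ _ (-e + 1) rfl]
      exact ⟨_, rfl⟩
    have h4 : f = ((ModuleCat.ofHom c : _ ⟶ ModuleCat.of A X) ≫ ModuleCat.ofHom (AdicCompletion.of I X)) +
        (K.d (-e) (-e + 1) ≫ (ModuleCat.ofHom g : _ ⟶ ModuleCat.of A (AdicCompletion I X))) :=
      ModuleCat.hom_ext hcg
    have h5 := (tcl_add hpn _ _ hc₂ hd).trans (by rw [h3, add_zero])
    rw [← h5]
    congr 1
    exact h4.symm

end Main

section Refl

variable {A : Type u} [CommRing A] [IsNoetherianRing A] (I : Ideal A) (X : Type u) [AddCommGroup X] [Module A X]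

lemma isDerivedComplete_adicCompletion : DRing.IsDerivedComplete I (Dual.inD A (AdicCompletion I X)) := by
  have : IsAdicComplete I (AdicCompletion I X) := AdicCompletion.isAdicComplete (IsNoetherian.noetherian I)
  rw [K230.DCLink.isDerivedComplete_inD_iff]
  exact fun f hf => K230.DCMore.dc_of_isAdicComplete hf

lemma exists_list : ∃ l : List A, Ideal.span {f | f ∈ l} = I ∧ ∀ f ∈ l, f ∈ I := by
  obtain ⟨s, hs⟩ := IsNoetherian.noetherian I
  refine ⟨s.toList, ?_, fun f hf => ?_⟩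
  · rw [← hs]
    congr 1
    ext f
    simp
  · rw [← hs]
    exact Submodule.subset_span (by simpa using hf)

/-- If the tower `I ^ n X` is pro-zero as seen by the Koszul objects, then `X[0] ⟶ X^[0]` is a derived completion. -/
theorem isRefl_of_ez [DRing.HasDerivedCompletion I]
    (hX : ∀ l : List A, Ideal.span {f | f ∈ l} = I → EZ I X (kc l)) :
    GMAbs.IsRefl (DRing.IsDerivedComplete I) ((DerivedCategory.singleFunctor (ModuleCat.{u} A) 0).map
        (ModuleCat.ofHom (AdicCompletion.of I X))) := by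
  obtain ⟨l, hl, hl'⟩ := exists_list I
  refine RlimComp.isRefl_of_bijective I l hl' (X := Dual.inD A X) (N := Dual.inD A (AdicCompletion I X)) _
    (isDerivedComplete_adicCompletion I X) fun e => ?_
  exact bijective_of_ez (hX l hl) (fun i => (fp_kc l i).2) e

/-- the Artin-Rees lemma for `Hom(Koszul complex, finite module)` -/
lemma ez_of_finite [Module.Finite A X] (l : List A) (hl : Ideal.span {f | f ∈ l} = I) : EZ I X (kc l) := by
  obtain ⟨N, hN⟩ := exists_pow_smul_kP I l hl
  exact EZ.of_pz (pz_powM I X (kc l) (fun i => (fp_kc l i).1) (fun i => (fp_kc l i).2) N hN)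

theorem isRefl_of_finite [DRing.HasDerivedCompletion I] [Module.Finite A X] :
    GMAbs.IsRefl (DRing.IsDerivedComplete I) ((DerivedCategory.singleFunctor (ModuleCat.{u} A) 0).map
        (ModuleCat.ofHom (AdicCompletion.of I X))) :=
  isRefl_of_ez I X fun l hl => ez_of_finite I X l hl

end Refl

end K231.AdicRefl
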