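import Groth.Agent.DRing.K231.AdicRefl
import Mathlib.LinearAlgebra.Contraction
import Mathlib.RingTheory.Flat.Basic

/-!
# The Koszul-elementary Artin-Rees property of `M ⊗ N` for `M` finite and `N` flat
-/

set_option autoImplicit false

universe u v w

open CategoryTheory Limits Opposite Pretriangulated CochainComplex CochainComplex.HomComplex
open scoped TensorProduct

attribute [local instance] HasDerivedCategory.standard

namespace K231.AdicTensor

open AdicRefl Groth.Agent.LoccohB KosP

section Theta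

variable {A : Type u} [CommRing A] (F L N : Type u) [AddCommGroup F] [Module A F]
  [AddCommGroup L] [Module A L] [AddCommGroup N] [Module A N]

/-- `Hom(F, L) ⊗ N ⟶ Hom(F, L ⊗ N)` -/
noncomputable abbrev θ : (F →ₗ[A] L) ⊗[A] N →ₗ[A] (F →ₗ[A] L ⊗[A] N) := TensorProduct.rTensorHomToHomRTensor (.id A) F L N

variable {F L N}

lemma θ_naturality {F' : Type u} [AddCommGroup F'] [Module A F'] (d : F' →ₗ[A] F) (τ : (F →ₗ[A] L) ⊗[A] N) :
    θ F' L N ((LinearMap.lcomp A L d).rTensor N τ) = (θ F L N τ) ∘ₗ d := by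
  induction τ with
  | zero => simp
  | tmul f n =>
    ext x
    simp
  | add x y hx hy => rw [map_add, map_add, hx, hy, map_add, LinearMap.add_comp]

lemma θ_bijective [Module.Finite A F] [Module.Projective A F] : Function.Bijective (θ (A := A) F L N) := by
  obtain ⟨n, π, hπ⟩ := Module.Finite.exists_fin' A F
  obtain ⟨s, hs⟩ := Module.projective_lifting_property π LinearMap.id hπ
  have h0 : Function.Bijective (θ (A := A) (Fin n → A) L N) := by
    have : (θ (A := A) (Fin n → A) L N) = (rTensorHomEquivHomRTensor A (Fin n → A) L N).toLinearMap :=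
      (rTensorHomEquivHomRTensor_toLinearMap A (Fin n → A) L N).symm
    rw [this]
    exact (rTensorHomEquivHomRTensor A (Fin n → A) L N).bijective
  constructor
  · rw [injective_iff_map_eq_zero]
    intro τ hτ
    have h1 : (LinearMap.lcomp A L π).rTensor N τ = 0 := by
      apply h0.1
      rw [map_zero, θ_naturality, hτ, LinearMap.zero_comp]
    have h2 : (LinearMap.lcomp A L s).rTensor N ((LinearMap.lcomp A L π).rTensor N τ) = τ := by
      rw [← LinearMap.comp_apply, ← LinearMap.rTensor_comp]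
      have : (LinearMap.lcomp A L s) ∘ₗ (LinearMap.lcomp A L π) = LinearMap.id := by
        ext f x
        change f (π (s x)) = f x
        rw [← LinearMap.comp_apply π s, hs, LinearMap.id_apply]
      rw [this, LinearMap.rTensor_id, LinearMap.id_apply]
    rw [← h2, h1, map_zero]
  · intro g
    obtain ⟨τ, hτ⟩ := h0.2 (g ∘ₗ π)
    refine ⟨(LinearMap.lcomp A L s).rTensor N τ, ?_⟩
    rw [θ_naturality, hτ, LinearMap.comp_assoc, hs, LinearMap.comp_id]

end Theta

section Tensor

variable {A : Type u} [CommRing A] {I : Ideal A} {M N : Type u} [AddCommGroup M] [Module A M]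
  [AddCommGroup N] [Module A N]
variable {K : CochainComplex (ModuleCat.{u} A) ℤ}

lemma mem_range_of_mem_smul_top (J : Ideal A) (t : M ⊗[A] N) (ht : t ∈ (J • ⊤ : Submodule A (M ⊗[A] N))) :
    t ∈ LinearMap.range ((J • ⊤ : Submodule A M).subtype.rTensor N) := by
  refine Submodule.smul_induction_on ht (fun a ha y _ => ?_) (fun x y hx hy => Submodule.add_mem _ hx hy)
  induction y with
  | zero => rw [smul_zero]; exact Submodule.zero_mem _
  | add x y hx hy => rw [smul_add]; exact Submodule.add_mem _ (hx trivial) (hy trivial)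
  | tmul m n =>
    refine ⟨(⟨a • m, Submodule.smul_mem_smul ha trivial⟩ : (J • ⊤ : Submodule A M)) ⊗ₜ n, ?_⟩
    rfl

lemma tmul_mem (J : Ideal A) (m : M) (hm : m ∈ (J • ⊤ : Submodule A M)) (n : N) :
    m ⊗ₜ[A] n ∈ (J • ⊤ : Submodule A (M ⊗[A] N)) := by
  refine Submodule.smul_induction_on hm (fun a ha y _ => ?_) (fun x y hx hy => ?_)
  · rw [← TensorProduct.smul_tmul']
    exact Submodule.smul_mem_smul ha trivial
  · rw [TensorProduct.add_tmul]
    exact Submodule.add_mem _ hx hy

theorem ez_tensor [Module.Flat A N] (hM : EZ I M K) (hfin : ∀ i, Module.Finite A (K.X i))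
    (hproj : ∀ i, Module.Projective A (K.X i)) : EZ I (M ⊗[A] N) K := by
  intro p' p q hp hq n
  obtain ⟨m, hm, H⟩ := hM p' p q hp hq n
  refine ⟨m, hm, fun f hf hfd => ?_⟩
  have := hfin p
  have := hproj p
  have := hfin p'
  have := hproj p'
  let L : Submodule A M := I ^ m • ⊤
  have hinj : Function.Injective (L.subtype.rTensor N) :=
    Module.Flat.rTensor_preserves_injective_linearMap _ L.injective_subtype
  -- lift `f` to `L ⊗ N`
  let f₁ : K.X p →ₗ[A] L ⊗[A] N := (LinearEquiv.ofInjective _ hinj).symm.toLinearMap ∘ₗ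
    f.codRestrict (LinearMap.range (L.subtype.rTensor N)) (fun x => mem_range_of_mem_smul_top _ _ (hf x))
  have hf₁ : (L.subtype.rTensor N) ∘ₗ f₁ = f := by
    ext x
    have h1 : (LinearEquiv.ofInjective _ hinj) (f₁ x) = f.codRestrict (LinearMap.range (L.subtype.rTensor N))
      (fun x => mem_range_of_mem_smul_top _ _ (hf x)) x := LinearEquiv.apply_symm_apply _ _
    exact congrArg Subtype.val h1
  have hf₁d : f₁ ∘ₗ (K.d p' p).hom = 0 := by
    ext x
    apply hinj
    rw [← LinearMap.comp_apply, ← LinearMap.comp_assoc, hf₁, hfd, LinearMap.zero_apply, LinearMap.zero_apply,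
      map_zero]
  obtain ⟨τ, hτ⟩ := (θ_bijective (A := A) (F := K.X p) (L := L) (N := N)).2 f₁
  have hτd : (LinearMap.lcomp A L (K.d p' p).hom).rTensor N τ = 0 := by
    apply (θ_bijective (A := A) (F := K.X p') (L := L) (N := N)).1
    rw [θ_naturality, hτ, hf₁d, map_zero]
  have hex : Function.Exact ((LinearMap.ker (LinearMap.lcomp A L (K.d p' p).hom)).subtype.rTensor N)
      ((LinearMap.lcomp A L (K.d p' p).hom).rTensor N) :=
    Module.Flat.rTensor_exact N (LinearMap.exact_subtype_ker_map _)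
  obtain ⟨ζ, rfl⟩ := (hex τ).1 hτd
  clear hτd
  have key : ∀ ζ : (LinearMap.ker (LinearMap.lcomp A L (K.d p' p).hom)) ⊗[A] N,
      ∃ g : K.X q →ₗ[A] M ⊗[A] N, (∀ x, g x ∈ (I ^ n • ⊤ : Submodule A (M ⊗[A] N))) ∧
        g ∘ₗ (K.d p q).hom = (L.subtype.rTensor N) ∘ₗ (θ (K.X p) L N
          ((LinearMap.ker (LinearMap.lcomp A L (K.d p' p).hom)).subtype.rTensor N ζ)) := by
    intro ζ
    induction ζ with
    | zero => exact ⟨0, fun x => Submodule.zero_mem _, by simp⟩
    | add x y hx hy =>
      obtain ⟨g, hg, hg'⟩ := hx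
      obtain ⟨g₁, hg₁, hg₁'⟩ := hy
      refine ⟨g + g₁, fun x => Submodule.add_mem _ (hg x) (hg₁ x), ?_⟩
      rw [map_add, map_add, LinearMap.add_comp, LinearMap.comp_add, hg', hg₁']
    | tmul z b =>
      obtain ⟨g, hg, hg'⟩ := H (L.subtype ∘ₗ z.1) (fun x => (z.1 x).2) (by
        have hz : z.1 ∘ₗ (K.d p' p).hom = 0 := z.2
        rw [LinearMap.comp_assoc, hz, LinearMap.comp_zero])
      refine ⟨(TensorProduct.mk A M N).flip b ∘ₗ g, fun x => tmul_mem _ _ (hg x) b, ?_⟩
      rw [LinearMap.comp_assoc, hg']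
      ext x
      simp
  obtain ⟨g, hg, hg'⟩ := key ζ
  refine ⟨g, hg, ?_⟩
  rw [hg', hτ, hf₁]

variable (I) (M) (N)

theorem isRefl_tensor [IsNoetherianRing A] [DRing.HasDerivedCompletion I] [Module.Finite A M] [Module.Flat A N] :
    GMAbs.IsRefl (DRing.IsDerivedComplete I) ((DerivedCategory.singleFunctor (ModuleCat.{u} A) 0).map
        (ModuleCat.ofHom (AdicCompletion.of I (M ⊗[A] N)))) :=
  isRefl_of_ez I (M ⊗[A] N) fun l hl => ez_tensor (ez_of_finite I M l hl) (fun i => (fp_kc l i).1)
    (fun i => (fp_kc l i).2)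

end Tensor

end K231.AdicTensor
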