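import Groth.Agent.LoccohB.EvPerf
import Groth.Agent.LoccohB.LTen
import Groth.Agent.DRing.K226.KFlat
import Groth.Agent.PerfB.KProjFlat

/-!
# `Hom•(P, K)` is K-flat for `P` perfect, bounded above, termwise projective and `K` K-flat
-/

set_option autoImplicit false
set_option backward.isDefEq.respectTransparency false

universe u

open CategoryTheory CategoryTheory.Limits MonoidalCategory CochainComplex CochainComplex.HomComplex Pretriangulated

attribute [local instance] HasDerivedCategory.standard

namespace K231.HomKFlat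

open DerivedCategory Groth.Agent.LoccohB Groth.Agent.LoccohB.TenCx Groth.Agent.LoccohB.LTen
  Groth.Agent.LoccohB.HomCx Groth.Agent.Dcoh.KFlatAbs Groth.Agent.PerfB.RingKFlat

variable {A : Type u} [CommRing A]

/-- `Hom•(-, K)` preserves homotopies. -/
noncomputable def homCxPreHomotopy {X Y : DRing.Cx A} {f g : X ⟶ Y} (h : Homotopy f g) (K : DRing.Cx A) :
    Homotopy (homCxPre f K) (homCxPre g K) := by
  have key : ∀ f : X ⟶ Y, homCxPre f K = curry (((DRing.homCx Y K) ◁ f) ≫ uncurry (𝟙 (DRing.homCx Y K))) := by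
    intro f
    rw [curry_whiskerLeft, curry_uncurry, Category.id_comp]
  rw [key f, key g]
  exact curryHomotopy ((whiskerLeftHomotopy _ h).compRight _)

section Split

variable {S : ShortComplex (DRing.Cx A)}
  (σ : ∀ n, (S.map (HomologicalComplex.eval (ModuleCat.{u} A) (ComplexShape.up ℤ) n)).Splitting)
  (K : DRing.Cx A)

/-- precomposition of cochains with a family of maps (not nec. commuting with differentials) -/
noncomputable def preX {X Y : DRing.Cx A} (r : ∀ p, X.X p ⟶ Y.X p) (n : ℤ) :
    (DRing.homCx Y K).X n ⟶ (DRing.homCx X K).X n :=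
  ModuleCat.ofHom (X := Cochain Y K n) (Y := Cochain X K n)
    { toFun := fun z => Cochain.mk fun p q hpq => r p ≫ z.v p q hpq
      map_add' := fun z z' => by
        ext p q hpq : 1
        simp
      map_smul' := fun a z => by
        ext p q hpq : 1
        simp }

/-- `Hom•(-, K)` of a degreewise split sequence is degreewise split. -/
noncomputable def splitHom (n : ℤ) :
    ((homCxSC S K).map (HomologicalComplex.eval (ModuleCat.{u} A) (ComplexShape.up ℤ) n)).Splitting where
  r := preX K (fun p => (σ p).s) n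
  s := preX K (fun p => (σ p).r) n
  f_r := by
    refine ModuleCat.hom_ext (LinearMap.ext fun (z : Cochain S.X₃ K n) => ?_)
    refine Cochain.ext _ _ fun p q hpq => ?_
    change (σ p).s ≫ ((Cochain.ofHom S.g).comp z (zero_add n)).v p q hpq = z.v p q hpq
    rw [Cochain.zero_cochain_comp_v, Cochain.ofHom_v]
    have := (σ p).s_g
    exact (Category.assoc _ _ _).symm.trans ((congrArg (· ≫ z.v p q hpq) this).trans (Category.id_comp _))
  s_g := by
    refine ModuleCat.hom_ext (LinearMap.ext fun (z : Cochain S.X₁ K n) => ?_)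
    refine Cochain.ext _ _ fun p q hpq => ?_
    change ((Cochain.ofHom S.f).comp (Cochain.mk fun p q hpq => (σ p).r ≫ z.v p q hpq) (zero_add n)).v p q hpq =
      z.v p q hpq
    rw [Cochain.zero_cochain_comp_v, Cochain.ofHom_v, Cochain.mk_v]
    have := (σ p).f_r
    exact (Category.assoc _ _ _).symm.trans ((congrArg (· ≫ z.v p q hpq) this).trans (Category.id_comp _))
  id := by
    refine ModuleCat.hom_ext (LinearMap.ext fun (z : Cochain S.X₂ K n) => ?_)
    refine Cochain.ext _ _ fun p q hpq => ?_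
    change ((Cochain.ofHom S.g).comp (Cochain.mk fun p q hpq => (σ p).s ≫ z.v p q hpq) (zero_add n) +
      Cochain.mk (fun p q hpq => (σ p).r ≫ ((Cochain.ofHom S.f).comp z (zero_add n)).v p q hpq)).v p q hpq =
      z.v p q hpq
    rw [Cochain.add_v, Cochain.zero_cochain_comp_v, Cochain.ofHom_v, Cochain.mk_v, Cochain.mk_v,
      Cochain.zero_cochain_comp_v, Cochain.ofHom_v]
    have h : ∀ (rr : S.X₂.X p ⟶ S.X₁.X p) (ss : S.X₃.X p ⟶ S.X₂.X p), rr ≫ S.f.f p + S.g.f p ≫ ss = 𝟙 (S.X₂.X p) →
        S.g.f p ≫ (ss ≫ z.v p q hpq) + rr ≫ (S.f.f p ≫ z.v p q hpq) = z.v p q hpq := by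
      intro rr ss h
      rw [← Category.assoc, ← Category.assoc, ← Preadditive.add_comp, add_comm, h, Category.id_comp]
    exact h _ _ (σ p).id

end Split

section Two

variable {T : ModuleCat.{u} A ⥤ ModuleCat.{u} A ⥤ ModuleCat.{u} A} [T.Additive] [∀ X₁, (T.obj X₁).Additive]
  [∀ (K₁ K₂ : DRing.Cx A), CochainComplex.HasMapBifunctor K₁ K₂ T]

lemma kfl_split₁ (S : ShortComplex (DRing.Cx A))
    (σ : ∀ n, (S.map (HomologicalComplex.eval _ (ComplexShape.up ℤ) n)).Splitting) (h₂ : KFl T S.X₂)
    (h₃ : KFl T S.X₃) : KFl T S.X₁ := by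
  rw [kfl_iff_acyclicMap] at h₂ h₃ ⊢
  intro L hL
  have hT : trianglehOfDegreewiseSplit S σ ∈ distTriang _ :=
    (HomotopyCategory.distinguished_iff_iso_trianglehOfDegreewiseSplit _).2 ⟨S, σ, ⟨Iso.refl _⟩⟩
  exact ObjectProperty.ext_of_isTriangulatedClosed₁ _ _ hT (h₂ L hL) (h₃ L hL)

lemma kfl_split₃ (S : ShortComplex (DRing.Cx A))
    (σ : ∀ n, (S.map (HomologicalComplex.eval _ (ComplexShape.up ℤ) n)).Splitting) (h₁ : KFl T S.X₁)
    (h₂ : KFl T S.X₂) : KFl T S.X₃ := by
  rw [kfl_iff_acyclicMap] at h₁ h₂ ⊢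
  intro L hL
  have hT : trianglehOfDegreewiseSplit S σ ∈ distTriang _ :=
    (HomotopyCategory.distinguished_iff_iso_trianglehOfDegreewiseSplit _).2 ⟨S, σ, ⟨Iso.refl _⟩⟩
  exact ObjectProperty.ext_of_isTriangulatedClosed₃ _ _ hT (h₁ L hL) (h₂ L hL)

end Two

section Class

/-- complexes `X` such that `Hom•(X, K)` is K-flat -/
def HK (K X : DRing.Cx A) : Prop := KFl (TR A) (DRing.homCx X K)

variable {K : DRing.Cx A}

lemma HK.of_retract {X Y : DRing.Cx A} (i : X ⟶ Y) (r : Y ⟶ X) (h : Homotopy (i ≫ r) (𝟙 X)) (hY : HK K Y) :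
    HK K X := by
  refine Groth.Agent.PerfB.KProjFlat.kfl_of_retract (homCxPre r K) (homCxPre i K) ?_ hY
  have h1 := homCxPreHomotopy h K
  rw [homCxPre_comp, homCxPre_id] at h1
  exact h1

lemma HK.of_iso {X Y : DRing.Cx A} (e : X ≅ Y) (hX : HK K X) : HK K Y :=
  HK.of_retract e.inv e.hom (by rw [e.inv_hom_id]) hX

lemma HK.split₁ {S : ShortComplex (DRing.Cx A)}
    (σ : ∀ n, (S.map (HomologicalComplex.eval (ModuleCat.{u} A) (ComplexShape.up ℤ) n)).Splitting)
    (h₂ : HK K S.X₂) (h₃ : HK K S.X₃) : HK K S.X₁ :=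
  kfl_split₃ (homCxSC S K) (splitHom σ K) h₃ h₂

lemma HK.split₂ {S : ShortComplex (DRing.Cx A)}
    (σ : ∀ n, (S.map (HomologicalComplex.eval (ModuleCat.{u} A) (ComplexShape.up ℤ) n)).Splitting)
    (h₁ : HK K S.X₁) (h₃ : HK K S.X₃) : HK K S.X₂ :=
  KFl.of_split (homCxSC S K) (splitHom σ K) h₃ h₁

lemma HK.split₃ {S : ShortComplex (DRing.Cx A)}
    (σ : ∀ n, (S.map (HomologicalComplex.eval (ModuleCat.{u} A) (ComplexShape.up ℤ) n)).Splitting)
    (h₁ : HK K S.X₁) (h₂ : HK K S.X₂) : HK K S.X₃ :=
  kfl_split₁ (homCxSC S K) (splitHom σ K) h₂ h₁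

lemma hk_S0 (hK : KFl (TR A) K) : HK K (S0 A) := KFl.of_iso (asIso (theta K)).symm hK

lemma HK.of_contractible {X Y : DRing.Cx A} (h : Homotopy (𝟙 X) 0) (hY : HK K Y) : HK K X :=
  HK.of_retract (0 : X ⟶ Y) 0 (by rw [comp_zero]; exact h.symm) hY

lemma hk_shift_iff (h0 : HK K (S0 A)) (X : DRing.Cx A) : HK K (X⟦(1 : ℤ)⟧) ↔ HK K X := by
  have hC : HK K (mappingCone (𝟙 X)) := HK.of_contractible
    (by
      have := mappingCone.homotopyToZeroOfId (C := ModuleCat.{u} A) X
      exact this) h0
  have h1 := HK.split₁ (K := K) (S := mappingCone.triangleRotateShortComplex (𝟙 X))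
    (fun n => mappingCone.triangleRotateShortComplexSplitting (𝟙 X) n)
  have h3 := HK.split₃ (K := K) (S := mappingCone.triangleRotateShortComplex (𝟙 X))
    (fun n => mappingCone.triangleRotateShortComplexSplitting (𝟙 X) n)
  exact ⟨fun h => h1 hC h, fun h => h3 h hC⟩

lemma hk_single (h0 : HK K (S0 A)) (M : ModuleCat.{u} A)
    (hM : HK K ((CochainComplex.singleFunctor (ModuleCat.{u} A) 0).obj M)) (n : ℤ) :
    HK K ((CochainComplex.singleFunctor (ModuleCat.{u} A) n).obj M) := by
  induction n using Int.induction_on with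
  | zero => exact hM
  | succ n ih =>
    have e := ((CochainComplex.singleFunctors (ModuleCat.{u} A)).shiftIso 1 (n : ℤ) (n + 1)
      (by lia)).app M
    rw [← hk_shift_iff h0]
    exact ih.of_iso e.symm
  | pred n ih =>
    have e := ((CochainComplex.singleFunctors (ModuleCat.{u} A)).shiftIso 1 (-(n : ℤ) - 1)
      (-(n : ℤ)) (by lia)).app M
    rw [← hk_shift_iff h0] at ih
    exact ih.of_iso e

lemma hk_retract_single {M N : ModuleCat.{u} A} (i : M ⟶ N) (r : N ⟶ M) (h : i ≫ r = 𝟙 M) (n : ℤ)
    (hN : HK K ((CochainComplex.singleFunctor (ModuleCat.{u} A) n).obj N)) :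
    HK K ((CochainComplex.singleFunctor (ModuleCat.{u} A) n).obj M) :=
  HK.of_retract ((CochainComplex.singleFunctor (ModuleCat.{u} A) n).map i)
    ((CochainComplex.singleFunctor (ModuleCat.{u} A) n).map r)
    (by rw [← Functor.map_comp, h, CategoryTheory.Functor.map_id]) hN

/-- `M ⟶ M × N ⟶ N` -/
noncomputable abbrev prodSC (M N : Type u) [AddCommGroup M] [Module A M] [AddCommGroup N] [Module A N] :
    ShortComplex (ModuleCat.{u} A) :=
  ShortComplex.mk (X₁ := ModuleCat.of A M) (X₂ := ModuleCat.of A (M × N)) (X₃ := ModuleCat.of A N)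
    (ModuleCat.ofHom (LinearMap.inl A M N)) (ModuleCat.ofHom (LinearMap.snd A M N)) (by
      ext x; rfl)

/-- its splitting -/
noncomputable def prodSplit (M N : Type u) [AddCommGroup M] [Module A M] [AddCommGroup N] [Module A N] :
    (prodSC (A := A) M N).Splitting where
  r := ModuleCat.ofHom (LinearMap.fst A M N)
  s := ModuleCat.ofHom (LinearMap.inr A M N)
  f_r := by ext x; rfl
  s_g := by ext x; rfl
  id := by
    refine ModuleCat.hom_ext (LinearMap.ext fun x => ?_)
    exact Prod.ext (add_zero _) (zero_add _)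

lemma hk_prod {M N : Type u} [AddCommGroup M] [Module A M] [AddCommGroup N] [Module A N] (n : ℤ)
    (hM : HK K ((CochainComplex.singleFunctor (ModuleCat.{u} A) n).obj (ModuleCat.of A M)))
    (hN : HK K ((CochainComplex.singleFunctor (ModuleCat.{u} A) n).obj (ModuleCat.of A N))) :
    HK K ((CochainComplex.singleFunctor (ModuleCat.{u} A) n).obj (ModuleCat.of A (M × N))) := by
  have h := HK.split₂ (K := K) (S := (prodSC (A := A) M N).map (CochainComplex.singleFunctor (ModuleCat.{u} A) n))
    (fun p => ((prodSplit (A := A) M N).map (CochainComplex.singleFunctor (ModuleCat.{u} A) n)).map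
      (HomologicalComplex.eval (ModuleCat.{u} A) (ComplexShape.up ℤ) p))
  exact h hM hN

lemma hk_free (hK : KFl (TR A) K) (n : ℤ) (k : ℕ) :
    HK K ((CochainComplex.singleFunctor (ModuleCat.{u} A) n).obj (ModuleCat.of A (ULift.{u} (Fin k) → A))) := by
  have h0 := hk_S0 hK
  have h1 : HK K ((CochainComplex.singleFunctor (ModuleCat.{u} A) n).obj (ModuleCat.of A A)) := hk_single h0 _ h0 n
  induction k with
  | zero =>
    refine HK.of_contractible (Y := S0 A) (Homotopy.ofEq ?_) h0
    have h2 : IsZero (ModuleCat.of A (ULift.{u} (Fin 0) → A)) := ModuleCat.isZero_of_subsingleton _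
    exact ((CochainComplex.singleFunctor (ModuleCat.{u} A) n).map_isZero h2).eq_of_src _ _
  | succ k ih =>
    have e : (ULift.{u} (Fin (k + 1)) → A) ≃ₗ[A] A × (ULift.{u} (Fin k) → A) :=
      (LinearEquiv.funCongrLeft A A Equiv.ulift.symm) ≪≫ₗ
        (Fin.consLinearEquiv A (fun _ => A)).symm ≪≫ₗ
        (LinearEquiv.refl A A).prodCongr (LinearEquiv.funCongrLeft A A Equiv.ulift)
    have h2 := hk_prod n h1 ih
    exact hk_retract_single (ModuleCat.ofHom e.toLinearMap) (ModuleCat.ofHom e.symm.toLinearMap)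
      (ModuleCat.hom_ext (LinearMap.ext fun x => e.symm_apply_apply x)) n h2

lemma hk_projective (hK : KFl (TR A) K) (M : ModuleCat.{u} A) [Module.Finite A M] [Module.Projective A M] (n : ℤ) :
    HK K ((CochainComplex.singleFunctor (ModuleCat.{u} A) n).obj M) := by
  obtain ⟨k, f, hf⟩ := Module.Finite.exists_fin' A M
  let f' : (ULift.{u} (Fin k) → A) →ₗ[A] M := f ∘ₗ (LinearEquiv.funCongrLeft A A Equiv.ulift.symm).toLinearMap
  have hf' : Function.Surjective f' := hf.comp (LinearEquiv.surjective _)
  obtain ⟨s, hs⟩ := Module.projective_lifting_property f' LinearMap.id hf'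
  exact hk_retract_single (ModuleCat.ofHom s) (ModuleCat.ofHom f')
    (by rw [← ModuleCat.ofHom_comp, hs]; rfl) n (hk_free hK n k)

/-- splittings of the top degree sequence -/
noncomputable def topSplit (X : DRing.Cx A) (b : ℤ) (hb : IsZero (X.X (b + 1))) (n : ℤ) :
    ((topSC X b hb).map (HomologicalComplex.eval (ModuleCat.{u} A) (ComplexShape.up ℤ) n)).Splitting := by
  by_cases hn : n = b
  · subst hn
    have h1 : IsIso ((topHom X n hb).f n) := isIso_topHom_f X n hb
    have h2 := topSC_X₃_isZero X n hb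
    exact
      { r := inv ((topHom X n hb).f n)
        s := 0
        f_r := @IsIso.hom_inv_id _ _ _ _ _ h1
        s_g := h2.eq_of_src _ _
        id := by
          rw [comp_zero, add_zero]
          exact @IsIso.inv_hom_id _ _ _ _ _ h1 }
  · have h1 := isIso_topSC_g X b hb n hn
    have h2 := isZero_top_X X b n hn
    exact
      { r := 0
        s := inv ((topSC X b hb).g.f n)
        f_r := h2.eq_of_src _ _
        s_g := @IsIso.inv_hom_id _ _ _ _ _ h1
        id := by
          rw [zero_comp, zero_add]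
          exact @IsIso.hom_inv_id _ _ _ _ _ h1 }

lemma hk_aux (hK : KFl (TR A) K) (n : ℕ) :
    ∀ (X : DRing.Cx A) (a : ℤ), (∀ i, i < a ∨ a + n ≤ i → IsZero (X.X i)) →
    (∀ i, Module.Finite A (X.X i)) → (∀ i, Module.Projective A (X.X i)) → HK K X := by
  induction n with
  | zero =>
    intro X a hX _ _
    refine HK.of_contractible (Y := S0 A) (Homotopy.ofEq ?_) (hk_S0 hK)
    refine HomologicalComplex.hom_ext _ _ fun i => (hX i ?_).eq_of_src _ _
    simp only [Nat.cast_zero, add_zero]
    exact lt_or_ge i a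
  | succ n ih =>
    intro X a hX hf hp
    have hb : IsZero (X.X (a + n + 1)) := hX _ (Or.inr (by push_cast; lia))
    have h3 : HK K (topSC X (a + n) hb).X₃ := by
      have key (i : ℤ) (hi : i ≠ a + n) : X.X i ≅ (topSC X (a + n) hb).X₃.X i := by
        have := isIso_topSC_g X (a + n) hb i hi
        exact asIso ((topSC X (a + n) hb).g.f i)
      apply ih _ a
      · intro i hi
        by_cases h : i = a + n
        · subst h
          exact topSC_X₃_isZero X (a + n) hb
        · exact (hX i (by rcases hi with hi | hi; exacts [Or.inl hi, Or.inr (by push_cast; lia)])).of_iso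
            (key i h).symm
      · intro i
        by_cases h : i = a + n
        · subst h
          have := topSC_X₃_isZero X (a + n) hb
          have := (ModuleCat.isZero_iff_subsingleton).1 this
          infer_instance
        · have := hf i
          exact Module.Finite.equiv (key i h).toLinearEquiv
      · intro i
        by_cases h : i = a + n
        · subst h
          have := topSC_X₃_isZero X (a + n) hb
          have := (ModuleCat.isZero_iff_subsingleton).1 this
          infer_instance
        · have := hp i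
          exact Module.Projective.of_equiv (key i h).toLinearEquiv
    have h1 : HK K (topSC X (a + n) hb).X₁ := by
      have := hf (a + n)
      have := hp (a + n)
      exact hk_projective hK (X.X (a + n)) (a + n)
    have h2 := HK.split₂ (K := K) (S := topSC X (a + n) hb) (topSplit X (a + n) hb)
    exact h2 h1 h3

theorem hk_of_bounded (hK : KFl (TR A) K) (X : DRing.Cx A) (a b : ℤ) (hX : DRing.VanishesOutside X a b)
    (hP : DRing.TermwiseFiniteProjective X) : HK K X := by
  by_cases hab : b < a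
  · exact hk_aux hK 0 X a (fun i hi => hX i (by omega)) (fun i => (hP i).1) (fun i => (hP i).2)
  · exact hk_aux hK (b - a + 1).toNat X a (fun i hi => hX i (by omega)) (fun i => (hP i).1) (fun i => (hP i).2)

theorem main (hK : KFl (TR A) K) (P : DRing.Cx A) [P.IsKProjective] (hP : DRing.IsPerfect A (DRing.toD P)) :
    HK K P := by
  obtain ⟨E, a, b, h1, h2, ⟨e⟩⟩ := hP
  have hE : E.IsKProjective := by
    have : E.IsStrictlyLE b := by
      rw [CochainComplex.isStrictlyLE_iff]
      exact fun i hi => h1 i (Or.inr hi)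
    have : ∀ n : ℤ, Projective (E.X n) := fun n => by
      have := (h2 n).2
      exact (IsProjective.iff_projective _).1 this
    exact CochainComplex.isKProjective_of_projective E b
  obtain ⟨f, hf⟩ := KDer.liftsFrom_Q P e.inv
  obtain ⟨g, hg⟩ := KDer.liftsFrom_Q E e.hom
  obtain ⟨h⟩ := KDer.homotopy_of_Q_map_eq_of_isKProjective (f := f ≫ g) (g := 𝟙 P) (by
    rw [Functor.map_comp, hf, hg, e.inv_hom_id, CategoryTheory.Functor.map_id])
  exact HK.of_retract f g h (hk_of_bounded hK E a b h1 h2)

end Class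

end K231.HomKFlat
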