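import Groth.Agent.LoccohB.FInv
import Groth.Agent.LoccohB.GMAbs

/-!
# Left orthogonal objects and reflections for derived completion

* `LO I X`: every morphism from `X` to a derived `I`-complete object vanishes; closed under isomorphisms, shifts,
  triangles; contains the objects on which some `f ∈ I` acts invertibly (`lo_of_isIso_smul`).
* `bijective_precomp`: in a triangle `X ⟶ Y ⟶ C`, `C` left orthogonal, precomposition with `X ⟶ Y` is bijective on
  morphisms to complete objects.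
* `hasDerivedCompletion_of_refl`: existence of derived completion from pointwise reflections.
* `isRefl_toDerivedCompletion`, `lo_cone_toDerivedCompletion`, `isoOfRefl`.
-/

set_option autoImplicit false
set_option backward.isDefEq.respectTransparency false

universe u

open CategoryTheory Limits Pretriangulated

attribute [local instance] HasDerivedCategory.standard

namespace K231.Orth

open Groth.Agent.LoccohB

variable {A : Type u} [CommRing A]

section Complete

lemma complete_shift (I : Ideal A) (X : Dual.D A) (n : ℤ) (h : DRing.IsDerivedComplete I X) :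
    DRing.IsDerivedComplete I (X⟦n⟧) := by
  intro f hf m
  have := h f hf (n + m)
  exact (DualShift.homShift (Dual.inD A (Localization.Away f)) X n m (n + m) rfl).toEquiv.subsingleton

lemma complete_of_iso (I : Ideal A) {X Y : Dual.D A} (e : X ≅ Y) (h : DRing.IsDerivedComplete I X) :
    DRing.IsDerivedComplete I Y := by
  intro f hf m
  have := h f hf m
  refine ⟨fun a b => ?_⟩
  rw [← cancel_mono ((shiftFunctor (Dual.D A) m).mapIso e.symm).hom]
  exact Subsingleton.elim _ _

lemma complete_of_isZero (I : Ideal A) {X : Dual.D A} (h : IsZero X) : DRing.IsDerivedComplete I X := by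
  intro f hf m
  refine ⟨fun a b => ?_⟩
  exact IsZero.eq_of_tgt ((shiftFunctor (Dual.D A) m).map_isZero h) _ _

lemma complete_mono {I J : Ideal A} (hIJ : I ≤ J) {X : Dual.D A} (h : DRing.IsDerivedComplete J X) :
    DRing.IsDerivedComplete I X := fun f hf m => h f (hIJ hf) m

lemma complete_obj₂ (I : Ideal A) {X Y Z : Dual.D A} {a : X ⟶ Y} {b : Y ⟶ Z} {c : Z ⟶ X⟦(1 : ℤ)⟧}
    (hT : Triangle.mk a b c ∈ distTriang (Dual.D A)) (hX : DRing.IsDerivedComplete I X)
    (hZ : DRing.IsDerivedComplete I Z) : DRing.IsDerivedComplete I Y := by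
  intro f hf m
  refine subsingleton_of_forall_eq 0 fun u => ?_
  have hT' := Triangle.shift_distinguished _ hT m
  obtain ⟨w, hw⟩ := Triangle.coyoneda_exact₂ _ hT' u ((hZ f hf m).elim _ _)
  rw [hw, (hX f hf m).elim w 0, zero_comp]

lemma complete_obj₃ (I : Ideal A) {X Y Z : Dual.D A} {a : X ⟶ Y} {b : Y ⟶ Z} {c : Z ⟶ X⟦(1 : ℤ)⟧}
    (hT : Triangle.mk a b c ∈ distTriang (Dual.D A)) (hX : DRing.IsDerivedComplete I X)
    (hY : DRing.IsDerivedComplete I Y) : DRing.IsDerivedComplete I Z :=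
  complete_obj₂ I (rot_of_distTriang _ hT) hY (complete_shift I _ _ hX)

lemma complete_obj₁ (I : Ideal A) {X Y Z : Dual.D A} {a : X ⟶ Y} {b : Y ⟶ Z} {c : Z ⟶ X⟦(1 : ℤ)⟧}
    (hT : Triangle.mk a b c ∈ distTriang (Dual.D A)) (hY : DRing.IsDerivedComplete I Y)
    (hZ : DRing.IsDerivedComplete I Z) : DRing.IsDerivedComplete I X :=
  complete_obj₂ I (inv_rot_of_distTriang _ hT) (complete_shift I _ _ hZ) hY

end Complete

/-- `X` is left orthogonal to the derived `I`-complete objects. -/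
def LO (I : Ideal A) (X : Dual.D A) : Prop := ∀ Z : Dual.D A, DRing.IsDerivedComplete I Z → ∀ u : X ⟶ Z, u = 0

section LO

variable {I : Ideal A}

lemma LO.of_iso {X Y : Dual.D A} (h : LO I X) (e : X ≅ Y) : LO I Y := by
  intro Z hZ u
  rw [← cancel_epi e.hom, comp_zero]
  exact h Z hZ _

lemma LO.shift {X : Dual.D A} (h : LO I X) (n : ℤ) : LO I (X⟦n⟧) := by
  intro Z hZ u
  let e : Z⟦-n⟧⟦n⟧ ≅ Z := (shiftFunctorCompIsoId (Dual.D A) (-n) n (by simp)).app Z
  obtain ⟨v, hv⟩ := (shiftFunctor (Dual.D A) n).map_surjective (u ≫ e.inv)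
  have h1 : v = 0 := h _ (complete_shift I Z (-n) hZ) v
  rw [h1, Functor.map_zero] at hv
  rw [← cancel_mono e.inv, ← hv, zero_comp]

lemma LO.of_isZero {X : Dual.D A} (h : IsZero X) : LO I X := fun _ _ _ => h.eq_of_src _ _

lemma LO.obj₂ {X Y Z : Dual.D A} {a : X ⟶ Y} {b : Y ⟶ Z} {c : Z ⟶ X⟦(1 : ℤ)⟧}
    (hT : Triangle.mk a b c ∈ distTriang (Dual.D A)) (hX : LO I X) (hZ : LO I Z) : LO I Y := by
  intro W hW u
  obtain ⟨w, hw⟩ := Triangle.yoneda_exact₂ _ hT u (hX W hW _)
  rw [hw, hZ W hW w, comp_zero]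

lemma LO.obj₃ {X Y Z : Dual.D A} {a : X ⟶ Y} {b : Y ⟶ Z} {c : Z ⟶ X⟦(1 : ℤ)⟧}
    (hT : Triangle.mk a b c ∈ distTriang (Dual.D A)) (hX : LO I X) (hY : LO I Y) : LO I Z :=
  LO.obj₂ (rot_of_distTriang _ hT) hY (hX.shift 1)

lemma LO.obj₁ {X Y Z : Dual.D A} {a : X ⟶ Y} {b : Y ⟶ Z} {c : Z ⟶ X⟦(1 : ℤ)⟧}
    (hT : Triangle.mk a b c ∈ distTriang (Dual.D A)) (hY : LO I Y) (hZ : LO I Z) : LO I X :=
  LO.obj₂ (inv_rot_of_distTriang _ hT) (hZ.shift (-1)) hY

/-- objects on which some `f ∈ I` acts invertibly are left orthogonal to the complete objects -/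
lemma lo_of_isIso_smul {f : A} (hf : f ∈ I) {X : Dual.D A} (hX : IsIso (f • 𝟙 X)) : LO I X := by
  intro Z hZ u
  exact (FInv.subsingleton_of_isDerivedComplete I f hf X Z hX hZ).elim _ _

/-- Triangle `X ⟶ Y ⟶ C` with `C` left orthogonal: precomposition with `X ⟶ Y` is bijective on complete objects. -/
lemma bijective_precomp {X Y C : Dual.D A} {a : X ⟶ Y} {b : Y ⟶ C} {c : C ⟶ X⟦(1 : ℤ)⟧}
    (hT : Triangle.mk a b c ∈ distTriang (Dual.D A)) (hC : LO I C) (Z : Dual.D A)
    (hZ : DRing.IsDerivedComplete I Z) : Function.Bijective (fun v : Y ⟶ Z => a ≫ v) := by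
  constructor
  · intro v w hvw
    rw [← sub_eq_zero]
    have h1 : a ≫ (v - w) = 0 := by
      rw [Preadditive.comp_sub]; exact sub_eq_zero.mpr hvw
    obtain ⟨s, hs⟩ := Triangle.yoneda_exact₂ _ hT (v - w) h1
    change C ⟶ Z at s
    exact GMAbs.zero_right hs (hC Z hZ s)
  · intro u
    have hT' := inv_rot_of_distTriang _ hT
    obtain ⟨w, hw⟩ := Triangle.yoneda_exact₂ _ hT' u (hC.shift (-1) Z hZ _)
    exact ⟨w, hw.symm⟩

/-- Converse of `bijective_precomp`. -/
lemma lo_of_bijective {X Y C : Dual.D A} {a : X ⟶ Y} {b : Y ⟶ C} {c : C ⟶ X⟦(1 : ℤ)⟧}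
    (hT : Triangle.mk a b c ∈ distTriang (Dual.D A))
    (h : ∀ Z, DRing.IsDerivedComplete I Z → Function.Bijective (fun v : Y ⟶ Z => a ≫ v)) : LO I C := by
  intro Z hZ u
  have h0 : a ≫ b = 0 := comp_distTriang_mor_zero₁₂ _ hT
  have h1 : b ≫ u = 0 := by
    apply (h Z hZ).1
    dsimp only
    rw [← Category.assoc, h0, zero_comp, comp_zero]
  obtain ⟨w, hw⟩ := Triangle.yoneda_exact₃ _ hT u h1
  change X⟦(1 : ℤ)⟧ ⟶ Z at w
  change u = c ≫ w at hw
  have h2 : ∃ w' : Y⟦(1 : ℤ)⟧ ⟶ Z, (shiftFunctor (Dual.D A) (1 : ℤ)).map a ≫ w' = w := by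
    let e : Z⟦(-1 : ℤ)⟧⟦(1 : ℤ)⟧ ≅ Z := (shiftFunctorCompIsoId (Dual.D A) (-1 : ℤ) 1 (by simp)).app Z
    obtain ⟨w₁, hw₁⟩ := (shiftFunctor (Dual.D A) (1 : ℤ)).map_surjective (w ≫ e.inv)
    obtain ⟨w₂, hw₂⟩ := (h _ (complete_shift I Z (-1) hZ)).2 w₁
    dsimp only at hw₂
    refine ⟨(shiftFunctor (Dual.D A) (1 : ℤ)).map w₂ ≫ e.hom, ?_⟩
    rw [← Category.assoc, ← Functor.map_comp, hw₂, hw₁, Category.assoc, e.inv_hom_id,
      Category.comp_id]
  obtain ⟨w', hw'⟩ := h2
  have h3 : c ≫ (shiftFunctor (Dual.D A) (1 : ℤ)).map a = 0 := comp_distTriang_mor_zero₃₁ _ hT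
  rw [hw, ← hw', ← Category.assoc, h3, zero_comp]

lemma isRefl_of_bijective {X Y : Dual.D A} {a : X ⟶ Y} (hY : DRing.IsDerivedComplete I Y)
    (h : ∀ Z, DRing.IsDerivedComplete I Z → Function.Bijective (fun v : Y ⟶ Z => a ≫ v)) :
    GMAbs.IsRefl (DRing.IsDerivedComplete I) a where
  mem := hY
  exists_desc Z hZ u := (h Z hZ).2 u
  ext Z hZ v w hvw := (h Z hZ).1 hvw

lemma bijective_of_isRefl {X Y : Dual.D A} {a : X ⟶ Y} (h : GMAbs.IsRefl (DRing.IsDerivedComplete I) a)
    (Z : Dual.D A) (hZ : DRing.IsDerivedComplete I Z) : Function.Bijective (fun v : Y ⟶ Z => a ≫ v) :=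
  ⟨fun _ _ hvw => h.ext Z hZ _ _ hvw, fun u => h.exists_desc Z hZ u⟩

end LO

section Existence

variable (I : Ideal A)

/-- Derived completion exists as soon as every object has a reflection into the complete objects. -/
theorem hasDerivedCompletion_of_refl
    (h : ∀ K : Dual.D A, ∃ (L : Dual.D A) (η : K ⟶ L), GMAbs.IsRefl (DRing.IsDerivedComplete I) η) :
    DRing.HasDerivedCompletion I := by
  have key : (ObjectProperty.ι (DRing.IsDerivedComplete I)).leftAdjointObjIsDefined = ⊤ := by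
    rw [eq_top_iff]
    intro K _
    obtain ⟨L, η, hη⟩ := h K
    rw [Functor.leftAdjointObjIsDefined_iff]
    let L' : DRing.DComp I := ⟨L, hη.mem⟩
    have e : (ObjectProperty.ι (DRing.IsDerivedComplete I) ⋙ coyoneda.obj (Opposite.op K)).CorepresentableBy L' :=
      { homEquiv := fun {Z} => (ObjectProperty.fullyFaithfulι (DRing.IsDerivedComplete I)).homEquiv.trans
          (Equiv.ofBijective (fun v : L ⟶ Z.obj => η ≫ v) (bijective_of_isRefl hη Z.obj Z.property))
        homEquiv_comp := fun g f => by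
          change η ≫ (f ≫ g).hom = (η ≫ f.hom) ≫ g.hom
          rw [Category.assoc]
          rfl }
    exact e.isCorepresentable
  exact Functor.isRightAdjoint_of_leftAdjointObjIsDefined_eq_top key

variable [DRing.HasDerivedCompletion I]

theorem isRefl_toDerivedCompletion (K : Dual.D A) :
    GMAbs.IsRefl (DRing.IsDerivedComplete I) (DRing.toDerivedCompletion I K) := by
  let adj := DRing.derivedCompletionAdj I
  refine ⟨((DRing.derivedCompletion I).obj K).property, ?_, ?_⟩
  · intro Z hZ u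
    let Z' : DRing.DComp I := ⟨Z, hZ⟩
    refine ⟨((adj.homEquiv K Z').symm u).hom, ?_⟩
    have := (adj.homEquiv K Z').apply_symm_apply u
    rw [Adjunction.homEquiv_unit] at this
    exact this
  · intro Z hZ v w hvw
    let Z' : DRing.DComp I := ⟨Z, hZ⟩
    let v' : (DRing.derivedCompletion I).obj K ⟶ Z' := ObjectProperty.homMk v
    let w' : (DRing.derivedCompletion I).obj K ⟶ Z' := ObjectProperty.homMk w
    have h1 : v' = w' := by
      apply (adj.homEquiv K Z').injective
      rw [Adjunction.homEquiv_unit, Adjunction.homEquiv_unit]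
      exact hvw
    exact congrArg (fun t => t.hom) h1

/-- The cone of `K ⟶ K^∧` is left orthogonal to the complete objects. -/
theorem lo_cone_toDerivedCompletion (K : Dual.D A) : ∃ (C : Dual.D A)
    (b : ((DRing.derivedCompletion I).obj K).obj ⟶ C) (c : C ⟶ K⟦(1 : ℤ)⟧),
    Triangle.mk (DRing.toDerivedCompletion I K) b c ∈ distTriang (Dual.D A) ∧ LO I C := by
  obtain ⟨C, b, c, hT⟩ := distinguished_cocone_triangle (DRing.toDerivedCompletion I K)
  exact ⟨C, b, c, hT, lo_of_bijective hT (bijective_of_isRefl (isRefl_toDerivedCompletion I K))⟩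

variable {I}

/-- Any reflection is isomorphic to the derived completion, under `K`. -/
theorem exists_iso_of_isRefl {K L : Dual.D A} {η : K ⟶ L} (h : GMAbs.IsRefl (DRing.IsDerivedComplete I) η) :
    ∃ e : ((DRing.derivedCompletion I).obj K).obj ≅ L, DRing.toDerivedCompletion I K ≫ e.hom = η := by
  have hη := isRefl_toDerivedCompletion I K
  obtain ⟨a, ha⟩ := hη.exists_desc L h.mem η
  obtain ⟨b, hb⟩ := h.exists_desc _ hη.mem (DRing.toDerivedCompletion I K)
  refine ⟨⟨a, b, ?_, ?_⟩, ha⟩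
  · apply hη.ext _ hη.mem
    rw [← Category.assoc, ha, hb, Category.comp_id]
  · apply h.ext _ h.mem
    rw [← Category.assoc, hb, ha, Category.comp_id]

/-- The derived completion of a left orthogonal object vanishes. -/
theorem isZero_of_lo {K : Dual.D A} (h : LO I K) : IsZero ((DRing.derivedCompletion I).obj K).obj := by
  have hη := isRefl_toDerivedCompletion I K
  rw [IsZero.iff_id_eq_zero]
  apply hη.ext _ hη.mem
  rw [h _ hη.mem (DRing.toDerivedCompletion I K), zero_comp, zero_comp]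

/-- Naturality of the unit. -/
lemma toDerivedCompletion_naturality {K L : Dual.D A} (φ : K ⟶ L) :
    DRing.toDerivedCompletion I K ≫ ((DRing.derivedCompletion I).map φ).hom = φ ≫ DRing.toDerivedCompletion I L :=
  ((DRing.derivedCompletionAdj I).unit.naturality φ).symm

end Existence

end K231.Orth
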