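import Groth.Agent.LoccohB.LTen
import Groth.Agent.DRing.K227.LbcFlat

/-!
# `- ⊗ᴸ M` for a module `M` agrees with `- ⊗ᴸ M[0]`

* `tenIso M : (tensorRight M).mapHomologicalComplex _ ≅ tensorRight (M[0])`;
* `ltenModIso M : LTensor A M ≅ LTensorCx A (M[0])` (natural isomorphism of functors on `D(A)`).
-/

set_option autoImplicit false

universe u

open CategoryTheory CategoryTheory.Limits MonoidalCategory

attribute [local instance] HasDerivedCategory.standard

namespace K231.TenMod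

open DerivedCategory Groth.Agent.LoccohB Groth.Agent.LoccohB.TenCx Groth.Agent.LoccohB.LTen

variable {A : Type u} [CommRing A] (M : ModuleCat.{u} A)

/-- `M` in degree zero -/
noncomputable abbrev s0 : DRing.Cx A := (CochainComplex.singleFunctor (ModuleCat.{u} A) 0).obj M

/-- `(M[0])^0 = M` -/
noncomputable def x0 : (s0 M).X 0 ≅ M := HomologicalComplex.singleObjXSelf (ComplexShape.up ℤ) 0 M

lemma isZero_s0 (q : ℤ) (hq : q ≠ 0) : IsZero ((s0 M).X q) :=
  HomologicalComplex.isZero_single_obj_X (ComplexShape.up ℤ) 0 M q hq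

/-- `(K ⊗ M)^n ⟶ (K ⊗ M[0])^n` -/
noncomputable def toSgX (K : DRing.Cx A) (n : ℤ) : K.X n ⊗ M ⟶ (K ⊗ s0 M : DRing.Cx A).X n :=
  (K.X n ◁ (x0 M).inv) ≫ tι K (s0 M) n 0 n (add_zero n)

lemma toSgX_tmul (K : DRing.Cx A) (n : ℤ) (x : K.X n) (y : M) :
    (toSgX M K n).hom (TensorProduct.tmul A x y) = tmk K (s0 M) n 0 n (add_zero n) x ((x0 M).inv.hom y) := rfl

/-- the inverse -/
noncomputable def fromSgX (K : DRing.Cx A) (n : ℤ) : (K ⊗ s0 M : DRing.Cx A).X n ⟶ K.X n ⊗ M :=
  descT fun p q h => if hq : q = 0 then by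
    obtain rfl : p = n := by omega
    subst hq
    exact (TensorProduct.mk A (K.X p) M).compl₂ (x0 M).hom.hom
  else 0

lemma fromSgX_tmk (K : DRing.Cx A) (n : ℤ) (x : K.X n) (y : (s0 M).X 0) :
    (fromSgX M K n).hom (tmk K (s0 M) n 0 n (add_zero n) x y) = TensorProduct.tmul A x ((x0 M).hom.hom y) := by
  rw [fromSgX, descT_tmk]
  simp

/-- `(K ⊗ M)^n ≅ (K ⊗ M[0])^n` -/
noncomputable def sgXIso (K : DRing.Cx A) (n : ℤ) : K.X n ⊗ M ≅ (K ⊗ s0 M : DRing.Cx A).X n where
  hom := toSgX M K n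
  inv := fromSgX M K n
  hom_inv_id := by
    refine ModuleCat.hom_ext (TensorProduct.ext' fun x y => ?_)
    change (fromSgX M K n).hom ((toSgX M K n).hom (TensorProduct.tmul A x y)) = TensorProduct.tmul A x y
    rw [toSgX_tmul, fromSgX_tmk]
    exact congrArg (fun t => TensorProduct.tmul A x t)
      (LinearMap.congr_fun (congrArg ModuleCat.Hom.hom (x0 M).inv_hom_id) y)
  inv_hom_id := by
    refine hom_ext_tmk fun p q hpq x y => ?_
    by_cases hq : q = 0
    · obtain rfl : p = n := by omega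
      subst hq
      change (toSgX M K p).hom ((fromSgX M K p).hom (tmk K (s0 M) p 0 p (add_zero p) x y)) = _
      rw [fromSgX_tmk, toSgX_tmul]
      exact congrArg (fun t => tmk K (s0 M) p 0 p (add_zero p) x t)
        (LinearMap.congr_fun (congrArg ModuleCat.Hom.hom (x0 M).hom_inv_id) y)
    · have h0 := ModuleCat.subsingleton_of_isZero (isZero_s0 M q hq)
      obtain rfl : y = 0 := Subsingleton.elim _ _
      rw [map_zero, map_zero, map_zero]

/-- `K ⊗ M ⟶ K ⊗ M[0]` -/
noncomputable def toSg (K : DRing.Cx A) :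
    ((tensorRight M).mapHomologicalComplex (ComplexShape.up ℤ)).obj K ≅ (K ⊗ s0 M : DRing.Cx A) :=
  HomologicalComplex.Hom.isoOfComponents (fun n => sgXIso M K n) (by
    rintro n _ rfl
    change toSgX M K n ≫ (K ⊗ s0 M : DRing.Cx A).d n (n + 1) = (K.d n (n + 1) ▷ M) ≫ toSgX M K (n + 1)
    refine ModuleCat.hom_ext (TensorProduct.ext' fun x y => ?_)
    change ((K ⊗ s0 M : DRing.Cx A).d n (n + 1)).hom ((toSgX M K n).hom (TensorProduct.tmul A x y)) =
      (toSgX M K (n + 1)).hom (TensorProduct.tmul A ((K.d n (n + 1)).hom x) y)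
    rw [toSgX_tmul, toSgX_tmul, d_tmk]
    have h0 : (s0 M).d 0 (0 + 1) = 0 := (isZero_s0 M (0 + 1) (by omega)).eq_of_tgt _ _
    rw [h0]
    change _ + n.negOnePow • tmk K (s0 M) n (0 + 1) (n + 1) _ x 0 = _
    rw [map_zero, smul_zero, add_zero])

lemma toSg_f (K : DRing.Cx A) (n : ℤ) : (toSg M K).hom.f n = toSgX M K n := rfl

/-- `- ⊗ M ≅ - ⊗ M[0]` on complexes. -/
noncomputable def tenIso : (tensorRight M).mapHomologicalComplex (ComplexShape.up ℤ) ≅
    (tensorRight (s0 M) : DRing.Cx A ⥤ DRing.Cx A) :=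
  NatIso.ofComponents (fun K => toSg M K) fun {K K'} f => by
    refine HomologicalComplex.hom_ext _ _ fun n => ?_
    refine ModuleCat.hom_ext (TensorProduct.ext' fun x y => ?_)
    change (toSgX M K' n).hom (TensorProduct.tmul A ((f.f n).hom x) y) =
      ((f ▷ (s0 M)).f n).hom ((toSgX M K n).hom (TensorProduct.tmul A x y))
    rw [toSgX_tmul, toSgX_tmul, whiskerRight_tmk]

variable [DRing.HasLTensor A M] [DRing.HasLTensorCx A (s0 M)]

/-- `- ⊗ᴸ M ≅ - ⊗ᴸ M[0]` on `D(A)`. -/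
noncomputable def ltenModIso : DRing.LTensor A M ≅ DRing.LTensorCx A (s0 M) := by
  have h1 : (DRing.LTensor A M).IsLeftDerivedFunctor (K227.LbcFlat.lfQCounit (tensorRight M))
      (HomologicalComplex.quasiIso (ModuleCat.{u} A) (ComplexShape.up ℤ)) :=
    KDer.isLeftDerivedFunctorCx_of_isIso _ (KDer.enoughKProjectives_moduleCat A) _
      fun P _ => K227.LbcFlat.isIso_lfQCounit_app (tensorRight M) P
  exact Functor.leftDerivedNatIso _ _ (K227.LbcFlat.lfQCounit (tensorRight M)) (ltenCounit (s0 M))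
    (HomologicalComplex.quasiIso (ModuleCat.{u} A) (ComplexShape.up ℤ)) (Functor.isoWhiskerRight (tenIso M) Q)

end K231.TenMod
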