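import Groth.Agent.DRing.K231.Amp
import Groth.Agent.LoccohB.PerfTri
import Groth.Agent.Cohder.TruncFactor

/-!
# Objects of `D(R)` with cohomology in degrees `-1` and `0`

* `exists_tri`: `K` is the cone of `M[0] ⟶ F[0]`, `F` projective.
* `exists_rep`: the cone is a two-term complex.
* `tri_of_twoTerm`: the triangle attached to a two-term complex.
-/

set_option autoImplicit false
set_option backward.isDefEq.respectTransparency false

universe u

open CategoryTheory Limits Pretriangulated CochainComplex CochainComplex.HomComplex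

attribute [local instance] HasDerivedCategory.standard

namespace K231.TwoTerm

open Groth.Agent.LoccohB K231.Amp

variable {R : Type u} [CommRing R]

/-- the embedding in degree `0` -/
noncomputable abbrev S : ModuleCat.{u} R ⥤ Dual.D R := DerivedCategory.singleFunctor (ModuleCat.{u} R) 0

/-- cohomology functor -/
noncomputable abbrev H (i : ℤ) : Dual.D R ⥤ ModuleCat.{u} R := DerivedCategory.homologyFunctor (ModuleCat.{u} R) i

lemma isLE_of {K : Dual.D R} (hK : ∀ i : ℤ, i ≠ -1 → i ≠ 0 → Subsingleton (Dual.HD R K i)) : K.IsLE 0 := by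
  rw [DerivedCategory.isLE_iff]
  intro i hi
  exact @ModuleCat.isZero_of_subsingleton _ _ _ (hK i (by omega) (by omega))

lemma isGE_of {K : Dual.D R} (hK : ∀ i : ℤ, i ≠ -1 → i ≠ 0 → Subsingleton (Dual.HD R K i)) : K.IsGE (-1) := by
  rw [DerivedCategory.isGE_iff]
  intro i hi
  exact @ModuleCat.isZero_of_subsingleton _ _ _ (hK i (by omega) (by omega))

section Basic

/-- H^0 zero and H^{-1} zero. -/
theorem comp_eq_zero {K₁ K₂ K₃ : Dual.D R} (φ : K₁ ⟶ K₂) (ψ : K₂ ⟶ K₃) [K₁.IsLE 0] [K₃.IsGE (-1)]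
    (hφ : (H 0).map φ = 0) (hψ : (H (-1)).map ψ = 0) : φ ≫ ψ = 0 := by
  have hT := DCalc.triangle_dist K₂ (-1) 0 (by omega)
  have h1 : φ ≫ (DerivedCategory.TStructure.t.truncGEπ 0).app K₂ = 0 := by
    apply Groth.Agent.Cohder.TruncFactor.hom_eq_zero 0
    rw [Functor.map_comp, hφ, zero_comp]
  obtain ⟨w, hw⟩ := Triangle.coyoneda_exact₂ _ hT φ h1
  change K₁ ⟶ (DerivedCategory.TStructure.t.truncLE (-1)).obj K₂ at w
  change φ = w ≫ (DerivedCategory.TStructure.t.truncLEι (-1)).app K₂ at hw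
  have h2 : (DerivedCategory.TStructure.t.truncLEι (-1)).app K₂ ≫ ψ = 0 := by
    apply Groth.Agent.Cohder.TruncFactor.hom_eq_zero (-1)
    rw [Functor.map_comp, hψ, comp_zero]
  rw [hw, Category.assoc]
  erw [h2]
  exact comp_zero

/-- the cone of a morphism which is an isomorphism on `H^0` and surjective on `H^{-1}` is in `D^{≤ -2}`. -/
lemma isLE_cone_of {K K' C : Dual.D R} {α : K ⟶ K'} {g : K' ⟶ C} {h : C ⟶ K⟦(1 : ℤ)⟧}
    (hT : Triangle.mk α g h ∈ distTriang (Dual.D R))
    (hK : ∀ i : ℤ, i ≠ -1 → i ≠ 0 → Subsingleton (Dual.HD R K i))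
    (hK' : ∀ i : ℤ, i ≠ -1 → i ≠ 0 → Subsingleton (Dual.HD R K' i))
    (h0 : IsIso ((H 0).map α)) (h1 : Epi ((H (-1)).map α)) : C.IsLE (-2) := by
  refine isLE_cone hT (-1) (fun i hi => ?_) (fun i hi => ?_)
  · rcases eq_or_ne i 0 with rfl | h
    · infer_instance
    · have hz : IsZero ((H i).obj K) := @ModuleCat.isZero_of_subsingleton _ _ _ (hK i (by omega) h)
      exact ⟨fun a b _ => hz.eq_of_tgt _ _⟩
  · rcases eq_or_ne i 0 with rfl | h
    · infer_instance
    rcases eq_or_ne i (-1) with rfl | h'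
    · exact h1
    · have hz : IsZero ((H i).obj K') := @ModuleCat.isZero_of_subsingleton _ _ _ (hK' i h' h)
      exact ⟨fun a b _ => hz.eq_of_src _ _⟩

lemma smul_id_eq_zero {K K' : Dual.D R} (α : K ⟶ K')
    (hK : ∀ i : ℤ, i ≠ -1 → i ≠ 0 → Subsingleton (Dual.HD R K i))
    (hK' : ∀ i : ℤ, i ≠ -1 → i ≠ 0 → Subsingleton (Dual.HD R K' i))
    (h0 : IsIso ((H 0).map α)) (h1 : Epi ((H (-1)).map α)) (f : R) (hf : f • (𝟙 K) = 0) : f • (𝟙 K') = 0 := by
  obtain ⟨C, g, h, hT⟩ := distinguished_cocone_triangle α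
  have hC := isLE_cone_of hT hK hK' h0 h1
  have hz : α ≫ (f • (𝟙 K')) = 0 := by
    rw [Linear.comp_smul, Category.comp_id, ← Category.id_comp α, ← Linear.smul_comp, hf, zero_comp]
  obtain ⟨w, hw⟩ := Triangle.yoneda_exact₂ _ hT _ hz
  change C ⟶ K' at w
  have hK'' := isGE_of hK'
  rw [hw, DerivedCategory.TStructure.t.zero_of_isLE_of_isGE w (-2) (-1) (by omega) hC hK'', comp_zero]

lemma isGE_shift_inD (N : ModuleCat.{u} R) : ((S.obj N)⟦(1 : ℤ)⟧).IsGE (-1) :=
  DerivedCategory.TStructure.t.isGE_shift _ 0 1 (-1) (by omega)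

lemma injective_precomp {K K' : Dual.D R} (α : K ⟶ K')
    (hK : ∀ i : ℤ, i ≠ -1 → i ≠ 0 → Subsingleton (Dual.HD R K i))
    (hK' : ∀ i : ℤ, i ≠ -1 → i ≠ 0 → Subsingleton (Dual.HD R K' i))
    (h0 : IsIso ((H 0).map α)) (h1 : Epi ((H (-1)).map α)) (N : ModuleCat.{u} R)
    (ξ : K' ⟶ (S.obj N)⟦(1 : ℤ)⟧) (hξ : α ≫ ξ = 0) : ξ = 0 := by
  obtain ⟨C, g, h, hT⟩ := distinguished_cocone_triangle α
  have hC := isLE_cone_of hT hK hK' h0 h1
  obtain ⟨w, hw⟩ := Triangle.yoneda_exact₂ _ hT _ hξ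
  change C ⟶ (S.obj N)⟦(1 : ℤ)⟧ at w
  have hN := isGE_shift_inD N
  rw [hw, DerivedCategory.TStructure.t.zero_of_isLE_of_isGE w (-2) (-1) (by omega) hC hN, comp_zero]

end Basic

section Tri

/-- `K` is the cone of `M[0] ⟶ F[0]`. -/
theorem exists_tri (K : Dual.D R) (hK : ∀ i : ℤ, i ≠ -1 → i ≠ 0 → Subsingleton (Dual.HD R K i))
    (F : ModuleCat.{u} R) [Projective F] (p : F ⟶ (H 0).obj K) [Epi p] :
    ∃ (M : ModuleCat.{u} R) (d : M ⟶ F) (b : S.obj F ⟶ K) (c : K ⟶ (S.obj M)⟦(1 : ℤ)⟧),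
      Triangle.mk (S.map d) b c ∈ distTriang (Dual.D R) := by
  obtain ⟨b, hb⟩ := (DBase.homToH_bijective 0 F K).2 p
  have hepi : Epi ((H 0).map b) := by
    have h1 : DBase.homToH 0 (𝟙 (S.obj F)) ≫ (H 0).map b = p := by
      rw [← DBase.homToH_comp, Category.id_comp]
      exact hb
    have : Epi (DBase.homToH 0 (𝟙 (S.obj F)) ≫ (H 0).map b) := by
      rw [h1]
      infer_instance
    exact epi_of_epi (DBase.homToH 0 (𝟙 (S.obj F))) _
  obtain ⟨Z, f, h, hT⟩ := distinguished_cocone_triangle₁ b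
  have hLE := isLE_of hK
  have hGE := isGE_of hK
  have hZ1 : Z.IsLE 0 := by
    rw [DerivedCategory.isLE_iff]
    intro i hi
    have h2 := DerivedCategory.HomologySequence.exact₁ _ hT (i - 1) i (by omega)
    refine h2.isZero_of_both_zeros ?_ ?_
    · change DerivedCategory.HomologySequence.δ (Triangle.mk f b h) (i - 1) i (by omega) = 0
      rcases eq_or_ne i 1 with rfl | hi'
      · have h3 := DerivedCategory.HomologySequence.comp_δ _ hT 0 1 (by omega)
        change (H 0).map b ≫ DerivedCategory.HomologySequence.δ (Triangle.mk f b h) 0 1 (by omega) = 0 at h3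
        rw [← cancel_epi ((H 0).map b), comp_zero]
        exact h3
      · exact (DerivedCategory.isZero_of_isLE K 0 (i - 1) (by omega)).eq_of_src _ _
    · exact (DerivedCategory.isZero_of_isLE (S.obj F) 0 i (by omega)).eq_of_tgt _ _
  have hZ2 : Z.IsGE 0 := by
    rw [DerivedCategory.isGE_iff]
    intro i hi
    have h2 := DerivedCategory.HomologySequence.exact₁ _ hT (i - 1) i (by omega)
    refine h2.isZero_of_both_zeros ?_ ?_
    · exact (DerivedCategory.isZero_of_isGE K (-1) (i - 1) (by omega)).eq_of_src _ _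
    · exact (DerivedCategory.isZero_of_isGE (S.obj F) 0 i (by omega)).eq_of_tgt _ _
  obtain ⟨M, ⟨e⟩⟩ := DerivedCategory.exists_iso_singleFunctor_obj_of_isGE_of_isLE Z 0
  obtain ⟨d, hd⟩ := (S (R := R)).map_surjective (e.inv ≫ f)
  refine ⟨M, d, b, h ≫ e.hom⟦(1 : ℤ)⟧', ?_⟩
  refine isomorphic_distinguished _ hT _ (Triangle.isoMk _ _ e.symm (Iso.refl _) (Iso.refl _) ?_ ?_ ?_)
  · change S.map d ≫ 𝟙 _ = e.inv ≫ f
    rw [hd, Category.comp_id]
  · exact (Category.comp_id _).trans (Category.id_comp _).symm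
  · change (h ≫ e.hom⟦(1 : ℤ)⟧') ≫ e.inv⟦(1 : ℤ)⟧' = 𝟙 _ ≫ h
    rw [Category.assoc, ← Functor.map_comp, e.hom_inv_id, CategoryTheory.Functor.map_id,
      Category.comp_id, Category.id_comp]

/-- the embedding of modules in complexes -/
noncomputable abbrev S₀ : ModuleCat.{u} R ⥤ DRing.Cx R := HomologicalComplex.single (ModuleCat.{u} R) (ComplexShape.up ℤ) 0

/-- the two-term complex attached to `d : M ⟶ F` -/
noncomputable abbrev TT {M F : ModuleCat.{u} R} (d : M ⟶ F) : DRing.Cx R := CochainComplex.mappingCone (S₀.map d)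

lemma vanishesOutside_TT {M F : ModuleCat.{u} R} (d : M ⟶ F) : DRing.VanishesOutside (TT d) (-1) 0 := by
  intro i hi
  apply PerfTri.isZero_mappingCone_X
  · exact HomologicalComplex.isZero_single_obj_X _ _ _ _ (by omega)
  · exact HomologicalComplex.isZero_single_obj_X _ _ _ _ (by omega)

lemma subsingleton_single_X (M : ModuleCat.{u} R) (i : ℤ) (hi : i ≠ 0) : Subsingleton ((S₀.obj M).X i) :=
  ModuleCat.subsingleton_of_isZero (HomologicalComplex.isZero_single_obj_X _ _ _ _ hi)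

/-- `M[0]` in degree `0` -/
noncomputable def sX (M : ModuleCat.{u} R) : (S₀.obj M).X 0 ≅ M :=
  HomologicalComplex.singleObjXSelf (ComplexShape.up ℤ) 0 M

lemma free_TT {M F : ModuleCat.{u} R} (d : M ⟶ F) [Module.Free R F] : Module.Free R ((TT d).X 0) := by
  have h1 : Subsingleton ((S₀.obj M).X (0 + 1)) := subsingleton_single_X M _ (by omega)
  have h2 : Module.Free R ((S₀.obj F).X 0) := Module.Free.of_equiv (sX F).toLinearEquiv.symm
  exact PerfTri.free_cone (S₀.map d) 0

lemma finite_TT_zero {M F : ModuleCat.{u} R} (d : M ⟶ F) [Module.Finite R F] : Module.Finite R ((TT d).X 0) := by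
  have h1 : Subsingleton ((S₀.obj M).X (0 + 1)) := subsingleton_single_X M _ (by omega)
  have h2 : Module.Finite R ((S₀.obj F).X 0) := Module.Finite.equiv (sX F).toLinearEquiv.symm
  exact PerfTri.finite_cone (S₀.map d) 0

lemma finite_TT_one {M F : ModuleCat.{u} R} (d : M ⟶ F) [Module.Finite R M] : Module.Finite R ((TT d).X (-1)) := by
  have h1 : Subsingleton ((S₀.obj F).X (-1)) := subsingleton_single_X F _ (by omega)
  have h2 : Module.Finite R ((S₀.obj M).X (-1 + 1)) := Module.Finite.equiv (sX M).toLinearEquiv.symm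
  exact PerfTri.finite_cone (S₀.map d) (-1)

/-- the triangle of a two-term complex -/
theorem tri_TT {M F : ModuleCat.{u} R} (d : M ⟶ F) :
    ∃ (b : S.obj F ⟶ DRing.toD (TT d)) (c : DRing.toD (TT d) ⟶ (S.obj M)⟦(1 : ℤ)⟧),
      Triangle.mk (S.map d) b c ∈ distTriang (Dual.D R) := by
  have h := DerivedCategory.mappingCone_triangle_distinguished (S₀.map d)
  exact ⟨_, _, h⟩

/-- `K` is represented by the two-term complex. -/
theorem nonempty_iso_TT {M F : ModuleCat.{u} R} {d : M ⟶ F} {K : Dual.D R} {b : S.obj F ⟶ K}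
    {c : K ⟶ (S.obj M)⟦(1 : ℤ)⟧} (hT : Triangle.mk (S.map d) b c ∈ distTriang (Dual.D R)) :
    Nonempty (DRing.toD (TT d) ≅ K) := by
  obtain ⟨b', c', hT'⟩ := tri_TT d
  exact ⟨Triangle.π₃.mapIso (isoTriangleOfIso₁₂ _ _ hT' hT (Iso.refl _) (Iso.refl _)
    ((Category.comp_id _).trans (Category.id_comp _).symm))⟩

end Tri

section OfTwoTerm

variable (E : DRing.Cx R) (hE : DRing.VanishesOutside E (-1) 0)

/-- the inclusion of the term of degree `0` -/
noncomputable def inc : S₀.obj (E.X 0) ⟶ E :=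
  HomologicalComplex.mkHomFromSingle (𝟙 (E.X 0)) (fun k hk => by
    have hk' : (0 : ℤ) + 1 = k := hk
    exact (hE k (Or.inr (by omega))).eq_of_tgt _ _)

/-- the cochain of degree `-1` given by the term of degree `-1` -/
noncomputable def coc : Cochain (S₀.obj (E.X (-1))) E (-1) := Cochain.single (sX (E.X (-1))).hom (-1)

lemma coc_v : (coc E).v 0 (-1) (by omega) = (sX (E.X (-1))).hom := Cochain.single_v _ _ _

lemma inc_f : (inc E hE).f 0 = (sX (E.X 0)).hom :=
  (HomologicalComplex.mkHomFromSingle_f (𝟙 (E.X 0)) _).trans (Category.comp_id _)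

lemma single_map_f {M N : ModuleCat.{u} R} (d : M ⟶ N) : (S₀.map d).f 0 = (sX M).hom ≫ d ≫ (sX N).inv :=
  HomologicalComplex.single_map_f_self (ComplexShape.up ℤ) 0 d

lemma desc_condition : δ (-1) 0 (coc E) = Cochain.ofHom (S₀.map (E.d (-1) 0) ≫ inc E hE) := by
  refine Cochain.ext _ _ fun p q hpq => ?_
  obtain rfl : p = q := by omega
  by_cases hp : p = 0
  · subst hp
    rw [δ_v (-1) 0 (by omega) _ 0 0 (by omega) (-1) 1 (by omega) (by omega), Cochain.ofHom_v, HomologicalComplex.comp_f,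
      coc_v, inc_f, single_map_f]
    have h1 : (S₀.obj (E.X (-1))).d 0 1 = 0 := rfl
    rw [h1, zero_comp, smul_zero, add_zero, Category.assoc, Category.assoc, Iso.inv_hom_id, Category.comp_id]
  · exact (HomologicalComplex.isZero_single_obj_X _ _ _ _ hp).eq_of_src _ _

/-- the comparison map -/
noncomputable def cmp : TT (E.d (-1) 0) ⟶ E :=
  mappingCone.desc (S₀.map (E.d (-1) 0)) (coc E) (inc E hE) (desc_condition E hE)

lemma isIso_cmp : IsIso (cmp E hE) := by
  have : ∀ i, IsIso ((cmp E hE).f i) := by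
    intro i
    by_cases hi : i < -1 ∨ 0 < i
    · have h1 := vanishesOutside_TT (E.d (-1) 0) i hi
      have h2 := hE i hi
      exact ⟨0, h1.eq_of_src _ _, h2.eq_of_src _ _⟩
    · have hi' : i = -1 ∨ i = 0 := by omega
      rcases hi' with rfl | rfl
      · have h1 : (mappingCone.inl (S₀.map (E.d (-1) 0))).v 0 (-1) (by omega) ≫ (cmp E hE).f (-1) =
            (sX (E.X (-1))).hom := by
          rw [← coc_v]
          exact mappingCone.inl_v_desc_f _ _ _ _ _ _ _
        have hz : Subsingleton ((S₀.obj (E.X 0)).X (-1)) := subsingleton_single_X _ _ (by omega)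
        have h2 : IsIso ((mappingCone.inl (S₀.map (E.d (-1) 0))).v 0 (-1) (by omega)) := by
          refine ⟨(mappingCone.fst (S₀.map (E.d (-1) 0))).1.v (-1) 0 (by omega), ?_, ?_⟩
          · exact mappingCone.inl_v_fst_v _ _ _ _
          · have h3 := mappingCone.id_X (S₀.map (E.d (-1) 0)) (-1) 0 (by omega)
            rw [← h3]
            have h4 : (mappingCone.snd (S₀.map (E.d (-1) 0))).v (-1) (-1) (by omega) = 0 :=
              (HomologicalComplex.isZero_single_obj_X _ _ _ _ (by omega)).eq_of_tgt _ _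
            rw [h4, zero_comp]
            exact (add_zero _).symm
        have h5 : IsIso ((mappingCone.inl (S₀.map (E.d (-1) 0))).v 0 (-1) (by omega) ≫ (cmp E hE).f (-1)) := by
          rw [h1]
          infer_instance
        exact @IsIso.of_isIso_comp_left _ _ _ _ _ _ _ h2 h5
      · have h1 : (mappingCone.inr (S₀.map (E.d (-1) 0))).f 0 ≫ (cmp E hE).f 0 = (sX (E.X 0)).hom := by
          rw [← inc_f E hE]
          exact mappingCone.inr_f_desc_f _ _ _ _ _
        have h2 : IsIso ((mappingCone.inr (S₀.map (E.d (-1) 0))).f 0) := by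
          refine ⟨(mappingCone.snd (S₀.map (E.d (-1) 0))).v 0 0 (by omega), ?_, ?_⟩
          · exact mappingCone.inr_f_snd_v _ _
          · have h3 := mappingCone.id_X (S₀.map (E.d (-1) 0)) 0 1 (by omega)
            rw [← h3]
            have h4 : (mappingCone.fst (S₀.map (E.d (-1) 0))).1.v 0 1 (by omega) = 0 :=
              (HomologicalComplex.isZero_single_obj_X _ _ _ _ (by omega)).eq_of_tgt _ _
            rw [h4, zero_comp]
            exact (zero_add _).symm
        have h5 : IsIso ((mappingCone.inr (S₀.map (E.d (-1) 0))).f 0 ≫ (cmp E hE).f 0) := by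
          rw [h1]
          infer_instance
        exact IsIso.of_isIso_comp_left ((mappingCone.inr (S₀.map (E.d (-1) 0))).f 0) _
  exact HomologicalComplex.Hom.isIso_of_components _

include hE in
/-- the triangle of a two-term complex -/
theorem tri_of_twoTerm {K : Dual.D R} (e : DRing.toD E ≅ K) :
    ∃ (b : S.obj (E.X 0) ⟶ K) (c : K ⟶ (S.obj (E.X (-1)))⟦(1 : ℤ)⟧),
      Triangle.mk (S.map (E.d (-1) 0)) b c ∈ distTriang (Dual.D R) := by
  obtain ⟨b, c, hT⟩ := tri_TT (E.d (-1) 0)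
  have hiso := isIso_cmp E hE
  let e' : DRing.toD (TT (E.d (-1) 0)) ≅ K := DerivedCategory.Q.mapIso (asIso (cmp E hE)) ≪≫ e
  refine ⟨b ≫ e'.hom, e'.inv ≫ c, isomorphic_distinguished _ hT _
    (Triangle.isoMk _ _ (Iso.refl _) (Iso.refl _) e'.symm ?_ ?_ ?_)⟩
  · exact (Category.comp_id _).trans (Category.id_comp _).symm
  · change (b ≫ e'.hom) ≫ e'.inv = 𝟙 _ ≫ b
    rw [Category.assoc, e'.hom_inv_id, Category.comp_id, Category.id_comp]
  · change (e'.inv ≫ c) ≫ (𝟙 _)⟦(1 : ℤ)⟧' = e'.inv ≫ c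
    rw [CategoryTheory.Functor.map_id, Category.comp_id]

end OfTwoTerm

section Ext

/-- `Hom(F[0], X⟦1⟧) = 0` for `F` projective and `X` a module. -/
lemma hom_shift_eq_zero (F N : ModuleCat.{u} R) [Projective F] (u : S.obj F ⟶ (S.obj N)⟦(1 : ℤ)⟧) : u = 0 := by
  apply Kernel.hom_projective_eq_zero F 0
  have : ((S.obj N)⟦(1 : ℤ)⟧).IsLE (-1) :=
    DerivedCategory.TStructure.t.isLE_shift _ 0 1 (-1) (by omega)
  exact DerivedCategory.isZero_of_isLE _ (-1) 0 (by omega)

variable {K : Dual.D R} {M F : ModuleCat.{u} R} {d : M ⟶ F} {b : S.obj F ⟶ K}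
    {c : K ⟶ (S.obj M)⟦(1 : ℤ)⟧} (hT : Triangle.mk (S.map d) b c ∈ distTriang (Dual.D R))

include hT

/-- If `a` kills `K ⟶ M[1]` then multiplication by `a` on `M` factors through `d`. -/
theorem exists_factor (a : R) (ha : a • c = 0) : ∃ h : F ⟶ M, d ≫ h = a • 𝟙 M := by
  have h0 : c ≫ (a • 𝟙 ((S.obj M)⟦(1 : ℤ)⟧)) = 0 := by
    rw [Linear.comp_smul, Category.comp_id, ha]
  obtain ⟨s, hs⟩ := Triangle.yoneda_exact₃ _ (rot_of_distTriang _ hT) _ h0
  change (S.obj F)⟦(1 : ℤ)⟧ ⟶ (S.obj M)⟦(1 : ℤ)⟧ at s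
  change a • 𝟙 ((S.obj M)⟦(1 : ℤ)⟧) = (-(S.map d)⟦(1 : ℤ)⟧') ≫ s at hs
  obtain ⟨s', rfl⟩ := (CategoryTheory.shiftFunctor (Dual.D R) (1 : ℤ)).map_surjective s
  obtain ⟨s'', rfl⟩ := (S (R := R)).map_surjective s'
  refine ⟨-s'', ?_⟩
  apply (S (R := R)).map_injective
  apply (CategoryTheory.shiftFunctor (Dual.D R) (1 : ℤ)).map_injective
  rw [Functor.map_smul, Functor.map_smul, CategoryTheory.Functor.map_id, CategoryTheory.Functor.map_id, hs,
    Preadditive.comp_neg, Functor.map_neg, Functor.map_neg, Functor.map_comp, Functor.map_comp,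
    Preadditive.neg_comp]

/-- Converse: if multiplication by `a` on `M` factors through `d` then `a` kills all extensions. -/
theorem smul_eq_zero [Projective F] (a : R) (h : F ⟶ M) (hh : d ≫ h = a • 𝟙 M) (N : ModuleCat.{u} R)
    (ξ : K ⟶ (S.obj N)⟦(1 : ℤ)⟧) : a • ξ = 0 := by
  have h1 : b ≫ ξ = 0 := hom_shift_eq_zero F N _
  obtain ⟨v, hv⟩ := Triangle.yoneda_exact₃ _ hT ξ h1
  change (S.obj M)⟦(1 : ℤ)⟧ ⟶ (S.obj N)⟦(1 : ℤ)⟧ at v
  change ξ = c ≫ v at hv
  have h2 : c ≫ (S.map d)⟦(1 : ℤ)⟧' = 0 := comp_distTriang_mor_zero₃₁ _ hT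
  have h3 : a • 𝟙 ((S.obj M)⟦(1 : ℤ)⟧) = (S.map d)⟦(1 : ℤ)⟧' ≫ (S.map h)⟦(1 : ℤ)⟧' := by
    rw [← Functor.map_comp, ← Functor.map_comp, hh, Functor.map_smul, Functor.map_smul,
      CategoryTheory.Functor.map_id, CategoryTheory.Functor.map_id]
  have h4 : a • c = 0 := by
    have h5 : a • c = c ≫ (a • 𝟙 ((S.obj M)⟦(1 : ℤ)⟧)) := by
      rw [Linear.comp_smul, Category.comp_id]
    rw [h5, h3, ← Category.assoc, h2, zero_comp]
  rw [hv, ← Linear.smul_comp, h4, zero_comp]

/-- `H^{-1}(K) = 0` and `H^0(K)` projective if `Ext^1(K, M) = 0`. -/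
theorem of_ext [Projective F] (hc : c = 0) : IsZero ((H (-1)).obj K) ∧ Projective ((H 0).obj K) := by
  constructor
  · have h1 := DerivedCategory.HomologySequence.exact₃ _ hT (-1) 0 (by omega)
    have h2 := DerivedCategory.HomologySequence.exact₂ _ (rot_of_distTriang _ hT) (-1)
    change (ShortComplex.mk ((H (-1)).map b) ((H (-1)).map c) _).Exact at h2
    refine h2.isZero_of_both_zeros ?_ ?_
    · exact (DerivedCategory.isZero_of_isGE (S.obj F) 0 (-1) (by omega)).eq_of_src _ _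
    · change (H (-1)).map c = 0
      rw [hc, Functor.map_zero]
  · obtain ⟨h, hh⟩ := exists_factor hT (1 : R) (by rw [hc, smul_zero])
    rw [one_smul] at hh
    -- retraction
    have h1 : S.map d ≫ (𝟙 (S.obj F) - S.map (h ≫ d)) = 0 := by
      rw [Preadditive.comp_sub, Category.comp_id, ← Functor.map_comp, ← Category.assoc, hh, Category.id_comp,
        sub_self]
    obtain ⟨s, hs⟩ := Triangle.yoneda_exact₂ _ hT _ h1
    change K ⟶ S.obj F at s
    change 𝟙 (S.obj F) - S.map (h ≫ d) = b ≫ s at hs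
    have h2 : S.map d ≫ b = 0 := comp_distTriang_mor_zero₁₂ _ hT
    have h3 : b ≫ s ≫ b = b := by
      rw [← Category.assoc, ← hs, Preadditive.sub_comp, Category.id_comp, Functor.map_comp, Category.assoc, h2,
        comp_zero, sub_zero]
    have hepi : Epi ((H 0).map b) := by
      have h4 := DerivedCategory.HomologySequence.exact₂ _ (rot_of_distTriang _ hT) 0
      change (ShortComplex.mk ((H 0).map b) ((H 0).map c) _).Exact at h4
      refine h4.epi_f ?_
      change (H 0).map c = 0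
      rw [hc, Functor.map_zero]
    have h5 : (H 0).map s ≫ (H 0).map b = 𝟙 _ := by
      rw [← cancel_epi ((H 0).map b), ← Functor.map_comp, ← Functor.map_comp, h3, Category.comp_id]
    have hF : Projective ((H 0).obj (S.obj F)) :=
      Projective.of_iso ((DerivedCategory.singleFunctorCompHomologyFunctorIso (ModuleCat.{u} R) 0).app F).symm
        inferInstance
    exact Retract.projective ⟨(H 0).map s, (H 0).map b, h5⟩

end Ext

end K231.TwoTerm
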