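import Groth.Agent.DRing.K231.TwoTerm

/-!
# Objects of `D(R)` with cohomology in degrees `-1` and `0`: existence of representatives
-/

set_option autoImplicit false
set_option backward.isDefEq.respectTransparency false

universe u

open CategoryTheory Limits Pretriangulated

attribute [local instance] HasDerivedCategory.standard

namespace K231.TwoTerm2

open Groth.Agent.LoccohB K231.Amp K231.TwoTerm

variable {R : Type u} [CommRing R]

instance projective_of_free (F : Type u) [AddCommGroup F] [Module R F] [Module.Free R F] :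
    Projective (ModuleCat.of R F) := by
  rw [← IsProjective.iff_projective]
  infer_instance

theorem exists_tri_free (K : Dual.D R) (hK : ∀ i : ℤ, i ≠ -1 → i ≠ 0 → Subsingleton (Dual.HD R K i)) :
    ∃ (F : Type u) (_ : AddCommGroup F) (_ : Module R F) (_ : Module.Free R F) (M : ModuleCat.{u} R)
      (d : M ⟶ ModuleCat.of R F) (b : S.obj (ModuleCat.of R F) ⟶ K) (c : K ⟶ (S.obj M)⟦(1 : ℤ)⟧),
      Triangle.mk (S.map d) b c ∈ distTriang (Dual.D R) := by
  let p : ModuleCat.of R ((Dual.HD R K 0) →₀ R) ⟶ (H 0).obj K :=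
    ModuleCat.ofHom (Finsupp.linearCombination R (fun x : Dual.HD R K 0 => x))
  have hp : Epi p := by
    rw [ModuleCat.epi_iff_surjective]
    intro x
    exact ⟨Finsupp.single x 1, by simp [p]⟩
  obtain ⟨M, d, b, c, hT⟩ := exists_tri K hK (ModuleCat.of R ((Dual.HD R K 0) →₀ R)) p
  exact ⟨_, _, _, inferInstance, M, d, b, c, hT⟩

theorem exists_tri_finite [IsNoetherianRing R] (K : Dual.D R)
    (hK : ∀ i : ℤ, i ≠ -1 → i ≠ 0 → Subsingleton (Dual.HD R K i))
    (h1 : Module.Finite R (Dual.HD R K (-1))) (h0 : Module.Finite R (Dual.HD R K 0)) :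
    ∃ (F : Type u) (_ : AddCommGroup F) (_ : Module R F) (_ : Module.Free R F) (_ : Module.Finite R F)
      (M : ModuleCat.{u} R) (_ : Module.Finite R M)
      (d : M ⟶ ModuleCat.of R F) (b : S.obj (ModuleCat.of R F) ⟶ K) (c : K ⟶ (S.obj M)⟦(1 : ℤ)⟧),
      Triangle.mk (S.map d) b c ∈ distTriang (Dual.D R) := by
  obtain ⟨n, f, hf⟩ := Module.Finite.exists_fin' R (Dual.HD R K 0)
  let p : ModuleCat.of R (Fin n → R) ⟶ (H 0).obj K := ModuleCat.ofHom f
  have hp : Epi p := (ModuleCat.epi_iff_surjective _).2 hf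
  obtain ⟨M, d, b, c, hT⟩ := exists_tri K hK (ModuleCat.of R (Fin n → R)) p
  refine ⟨_, _, _, inferInstance, inferInstance, M, ?_, d, b, c, hT⟩
  -- finiteness of `M`
  have h2 := DerivedCategory.HomologySequence.exact₁ _ hT (-1) 0 (by omega)
  rw [CategoryTheory.ShortComplex.ShortExact.moduleCat_exact_iff_function_exact] at h2
  let E1 : (H 0).obj (S.obj (ModuleCat.of R (Fin n → R))) ≃ₗ[R] (Fin n → R) :=
    ((DerivedCategory.singleFunctorCompHomologyFunctorIso (ModuleCat.{u} R) 0).app
      (ModuleCat.of R (Fin n → R))).toLinearEquiv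
  let E2 : (H 0).obj (S.obj M) ≃ₗ[R] M :=
    ((DerivedCategory.singleFunctorCompHomologyFunctorIso (ModuleCat.{u} R) 0).app M).toLinearEquiv
  have e1 : Module.Finite R ((H 0).obj (S.obj (ModuleCat.of R (Fin n → R)))) := Module.Finite.equiv E1.symm
  have e2 : IsNoetherian R ((H 0).obj (S.obj (ModuleCat.of R (Fin n → R)))) := isNoetherian_of_isNoetherianRing_of_finite R _
  have e3 : IsNoetherian R ((H (-1)).obj K) := isNoetherian_of_isNoetherianRing_of_finite R (Dual.HD R K (-1))
  let f' : (H (-1)).obj K →ₗ[R] (H 0).obj (S.obj M) :=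
    (DerivedCategory.HomologySequence.δ (Triangle.mk (S.map d) b c) (-1) 0 (by omega)).hom
  let g' : (H 0).obj (S.obj M) →ₗ[R] (H 0).obj (S.obj (ModuleCat.of R (Fin n → R))) := ((H 0).map (S.map d)).hom
  have h3 : Function.Exact f' g' := h2
  have e4 : IsNoetherian R ((H 0).obj (S.obj M)) := isNoetherian_of_range_eq_ker f' g' h3.linearMap_ker_eq.symm
  exact Module.Finite.equiv E2

theorem ext_of_projective (K : Dual.D R) (hK : ∀ i : ℤ, i ≠ -1 → i ≠ 0 → Subsingleton (Dual.HD R K i))
    (h1 : Subsingleton (Dual.HD R K (-1))) (h2 : Module.Projective R (Dual.HD R K 0))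
    (N : ModuleCat.{u} R) (u : K ⟶ (S.obj N)⟦(1 : ℤ)⟧) : u = 0 := by
  have hle := isLE_of hK
  have hge : K.IsGE 0 := by
    rw [DerivedCategory.isGE_iff]
    intro i hi
    rcases eq_or_ne i (-1) with rfl | h
    · exact @ModuleCat.isZero_of_subsingleton _ _ _ h1
    · exact @ModuleCat.isZero_of_subsingleton _ _ _ (hK i h (by omega))
  obtain ⟨e⟩ := DCalc.exists_iso_single K 0
  have hproj : Projective ((H 0).obj K) := by
    have h3 : Projective (ModuleCat.of R (Dual.HD R K 0)) := by
      rw [← IsProjective.iff_projective]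
      exact h2
    exact h3
  rw [← cancel_epi e.inv, comp_zero]
  exact hom_shift_eq_zero ((H 0).obj K) N _

end K231.TwoTerm2
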